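import Mathlib.CategoryTheory.Preadditive.AdditiveFunctor

/-! # Additive functors and binary biproducts -/

set_option autoImplicit false

open CategoryTheory CategoryTheory.Limits

namespace K365.Biprod

/-- `F (X ⊞ Y) ≅ F X ⊞ F Y` for an additive functor, whatever the biproduct instances are. -/
noncomputable def mapIso {C D : Type*} [Category* C] [Category* D] [Preadditive C] [Preadditive D] (F : C ⥤ D)
    [F.Additive] (X Y : C) [HasBinaryBiproduct X Y] [HasBinaryBiproduct (F.obj X) (F.obj Y)] :
    F.obj (X ⊞ Y) ≅ F.obj X ⊞ F.obj Y where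
  hom := biprod.lift (F.map biprod.fst) (F.map biprod.snd)
  inv := biprod.desc (F.map biprod.inl) (F.map biprod.inr)
  hom_inv_id := by
    rw [biprod.lift_desc, ← F.map_comp, ← F.map_comp, ← F.map_add, biprod.total, F.map_id]
  inv_hom_id := by
    apply biprod.hom_ext
    · apply biprod.hom_ext' <;> simp [← F.map_comp]
    · apply biprod.hom_ext' <;> simp [← F.map_comp]

end K365.Biprod
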