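import Groth.Prelude.Def_DerCA
import Groth.Agent.LocCoh.K171.CechCocone
import Mathlib.Algebra.Homology.HomotopyCategory.Triangulated

set_option autoImplicit false
universe u
open CategoryTheory CategoryTheory.Limits Pretriangulated

namespace K365.CechHtpy

variable {R : Type u} [CommRing R]

/-- The localisation map at powers of a unit is an isomorphism. -/
lemma isIso_locUnit_app (f : R) (hf : IsUnit f) (M : ModuleCat.{u} R) :
    IsIso ((DerCA.locUnit (Submonoid.powers f)).app M) := by
  have hu : ∀ n : ℕ, IsUnit (f ^ n) := fun n => hf.pow n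
  have hb : Function.Bijective (LocalizedModule.mkLinearMap (Submonoid.powers f) M) := by
    constructor
    · rw [injective_iff_map_eq_zero]
      intro x hx
      obtain ⟨s, ⟨n, rfl⟩, hs⟩ := (K171.Cech.mkLinearMap_eq_zero_iff (Submonoid.powers f) M x).1 hx
      exact (hu n).smul_eq_zero.1 hs
    · intro z
      induction z using LocalizedModule.induction_on with
      | h a s =>
        obtain ⟨s, n, rfl⟩ := s
        obtain ⟨v, hv⟩ := hu n
        refine ⟨(↑v⁻¹ : R) • a, ?_⟩
        rw [LocalizedModule.mkLinearMap_apply, LocalizedModule.mk_eq]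
        refine ⟨1, ?_⟩
        simp only [one_smul, Submonoid.smul_def]
        change (fun x => f ^ x) n • (↑v⁻¹ : R) • a = a
        change f ^ n • (↑v⁻¹ : R) • a = a
        rw [smul_smul, ← hv, Units.mul_inv, one_smul]
  rw [ConcreteCategory.isIso_iff_bijective]
  exact hb

lemma isIso_locCxUnit (f : R) (hf : IsUnit f) (K : DRing.Cx R) :
    IsIso (DerCA.locCxUnit (Submonoid.powers f) K) := by
  have : ∀ n, IsIso ((DerCA.locCxUnit (Submonoid.powers f) K).f n) := fun n =>
    isIso_locUnit_app f hf (K.X n)
  exact HomologicalComplex.Hom.isIso_of_components _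

/-- The cocone of a map which is a homotopy equivalence is contractible. -/
lemma isZero_cocone {K L : DRing.Cx R} (φ : K ⟶ L)
    (h : IsIso ((HomotopyCategory.quotient (ModuleCat.{u} R) (ComplexShape.up ℤ)).map φ)) :
    IsZero ((HomotopyCategory.quotient (ModuleCat.{u} R) (ComplexShape.up ℤ)).obj
      (CochainComplex.mappingCocone φ)) := by
  have h1 := HomotopyCategory.mappingCone_triangleh_distinguished φ
  have h2 : IsZero ((HomotopyCategory.quotient (ModuleCat.{u} R) (ComplexShape.up ℤ)).obj
      (CochainComplex.mappingCone φ)) := Triangle.isZero₃_of_isIso₁ _ h1 h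
  exact (Functor.map_isZero (shiftFunctor _ (-1 : ℤ)) h2).of_iso
    (((HomotopyCategory.quotient (ModuleCat.{u} R) (ComplexShape.up ℤ)).commShiftIso (-1 : ℤ)).app _)

theorem isZero_extCech (fs : List R) (hf : ∃ f ∈ fs, IsUnit f) (M : ModuleCat.{u} R) :
    IsZero ((HomotopyCategory.quotient (ModuleCat.{u} R) (ComplexShape.up ℤ)).obj
      (DerCA.extCech M fs)) := by
  induction fs with
  | nil => simp at hf
  | cons g gs ih =>
    obtain ⟨f, hf, hu⟩ := hf
    rcases List.mem_cons.1 hf with rfl | hf
    · have := isIso_locCxUnit f hu (DerCA.extCech M gs)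
      exact isZero_cocone _ inferInstance
    · have h1 := ih ⟨f, hf, hu⟩
      have h2 : IsZero ((HomotopyCategory.quotient (ModuleCat.{u} R) (ComplexShape.up ℤ)).obj
          ((DerCA.locCx (Submonoid.powers g)).obj (DerCA.extCech M gs))) := by
        rw [HomotopyCategory.isZero_quotient_obj_iff] at h1 ⊢
        obtain ⟨h⟩ := h1
        refine ⟨?_⟩
        have h3 := (DerCA.locFunctor (Submonoid.powers g)).mapHomotopy h
        exact (Homotopy.ofEq (CategoryTheory.Functor.map_id _ _).symm).trans
          (h3.trans (Homotopy.ofEq (CategoryTheory.Functor.map_zero _ _ _)))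
      exact isZero_cocone _ (isIso_of_source_target_iso_zero _ h1.isoZero h2.isoZero)

end K365.CechHtpy
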