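import Groth.Agent.DerCA.K365.CechTors
import Groth.Agent.Flat2H.KoszulReg
import Groth.Agent.Ega3A.ConeElements
import Mathlib.Algebra.Homology.HomotopyCategory.DegreewiseSplit
import Mathlib.Algebra.Homology.HomologySequenceLemmas

/-!
# Koszul complexes and the extended Čech complex

* `shortExact_cone1`: the cone of multiplication by `z` is exact on short exact sequences.
* `nonempty_homology_kos_extCech`: if all members of `gs` belong to `l` then the Koszul complex on `l` of the
  extended Čech complex of `M` for `gs` has the same cohomology as the Koszul complex of `M`.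
* `isZero_of_koszulRegular`: for a Koszul-regular sequence the extended Čech complex of `R` has cohomology only in
  degree `r`.
-/

set_option autoImplicit false
universe u
open CategoryTheory CategoryTheory.Limits CochainComplex

namespace K365.CechKos

attribute [local instance] HasDerivedCategory.standard

open Groth.Agent.Flat2H.KoszulBasic Groth.Agent.Flat2H.KoszulReg Groth.Agent.Ega3A.ConeElements
open K171.Cech K365.CechTors

variable {R : Type u} [CommRing R]

lemma cfst_cone1Map (z : R) {K L : CochainComplex (ModuleCat.{u} R) ℤ} (f : K ⟶ L) {n m : ℤ}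
    (h : n + 1 = m) (c : (mappingCone (z • 𝟙 K)).X n) :
    cfst (z • 𝟙 L) h (((cone1Map z f).f n).hom c) = (f.f m).hom (cfst (z • 𝟙 K) h c) :=
  cfst_map f f _ h c

lemma csnd_cone1Map (z : R) {K L : CochainComplex (ModuleCat.{u} R) ℤ} (f : K ⟶ L) {n : ℤ}
    (c : (mappingCone (z • 𝟙 K)).X n) :
    csnd (z • 𝟙 L) n (((cone1Map z f).f n).hom c) = (f.f n).hom (csnd (z • 𝟙 K) n c) :=
  csnd_map f f _ c

lemma cone1Map_comp_zero (z : R) {K L M : CochainComplex (ModuleCat.{u} R) ℤ} (f : K ⟶ L) (g : L ⟶ M)
    (w : f ≫ g = 0) : cone1Map z f ≫ cone1Map z g = 0 := by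
  rw [← cone1Map_comp, w]
  ext n x
  change ((cone1Map z (0 : K ⟶ M)).f n).hom x = 0
  refine cone_ext (φ := z • 𝟙 M) (rfl : n + 1 = n + 1) ?_ ?_
  · rw [cfst_cone1Map, map_zero]
    rfl
  · rw [csnd_cone1Map, map_zero]
    rfl

theorem shortExact_cone1 (z : R) {S : ShortComplex (CochainComplex (ModuleCat.{u} R) ℤ)}
    (hS : S.ShortExact) :
    (ShortComplex.mk (cone1Map z S.f) (cone1Map z S.g) (cone1Map_comp_zero z _ _ S.zero)).ShortExact := by
  apply HomologicalComplex.shortExact_of_degreewise_shortExact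
  intro n
  have hp : ∀ p, Function.Injective (S.f.f p).hom ∧ Function.Exact (S.f.f p).hom (S.g.f p).hom ∧
      Function.Surjective (S.g.f p).hom := by
    intro p
    have h := hS.map_of_exact (HomologicalComplex.eval _ (ComplexShape.up ℤ) p)
    exact ⟨(ModuleCat.mono_iff_injective _).1 h.mono_f,
      (ShortComplex.ShortExact.moduleCat_exact_iff_function_exact _).1 h.exact,
      (ModuleCat.epi_iff_surjective _).1 h.epi_g⟩
  have h1 : Mono ((cone1Map z S.f).f n) := by
    rw [ModuleCat.mono_iff_injective]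
    change Function.Injective ((cone1Map z S.f).f n).hom
    rw [injective_iff_map_eq_zero]
    intro c hc
    have h1 := congrArg (cfst (z • 𝟙 S.X₂) (rfl : n + 1 = n + 1)) hc
    have h2 := congrArg (csnd (z • 𝟙 S.X₂) n) hc
    rw [map_zero, cfst_cone1Map] at h1
    rw [map_zero, csnd_cone1Map] at h2
    refine cone_ext (φ := z • 𝟙 S.X₁) (rfl : n + 1 = n + 1) ?_ ?_
    · rw [map_zero]
      exact (hp (n + 1)).1 (h1.trans (map_zero _).symm)
    · rw [map_zero]
      exact (hp n).1 (h2.trans (map_zero _).symm)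
  have h2 : Epi ((cone1Map z S.g).f n) := by
    rw [ModuleCat.epi_iff_surjective]
    intro c
    obtain ⟨a, ha⟩ := (hp (n + 1)).2.2 (cfst (z • 𝟙 S.X₃) (rfl : n + 1 = n + 1) c)
    obtain ⟨b, hb⟩ := (hp n).2.2 (csnd (z • 𝟙 S.X₃) n c)
    refine ⟨cinl (z • 𝟙 S.X₂) rfl a + cinr (z • 𝟙 S.X₂) n b, ?_⟩
    refine cone_ext (φ := z • 𝟙 S.X₃) (rfl : n + 1 = n + 1) ?_ ?_
    · refine (cfst_cone1Map z S.g _ _).trans ?_
      rw [cfst_pair]
      exact ha
    · refine (csnd_cone1Map z S.g _).trans ?_
      rw [csnd_pair]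
      exact hb
  have h3 : (ShortComplex.mk ((cone1Map z S.f).f n) ((cone1Map z S.g).f n)
      (congrArg (fun t => t.f n) (cone1Map_comp_zero z _ _ S.zero))).Exact := by
    rw [ShortComplex.ShortExact.moduleCat_exact_iff_function_exact]
    intro c
    constructor
    · intro hc
      change ((cone1Map z S.g).f n).hom c = 0 at hc
      have h1 := congrArg (cfst (z • 𝟙 S.X₃) (rfl : n + 1 = n + 1)) hc
      have h2 := congrArg (csnd (z • 𝟙 S.X₃) n) hc
      rw [map_zero, cfst_cone1Map] at h1
      rw [map_zero, csnd_cone1Map] at h2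
      obtain ⟨a, ha⟩ := ((hp (n + 1)).2.1 _).1 h1
      obtain ⟨b, hb⟩ := ((hp n).2.1 _).1 h2
      refine ⟨cinl (z • 𝟙 S.X₁) rfl a + cinr (z • 𝟙 S.X₁) n b, ?_⟩
      refine cone_ext (φ := z • 𝟙 S.X₂) (rfl : n + 1 = n + 1) ?_ ?_
      · refine (cfst_cone1Map z S.f _ _).trans ?_
        rw [cfst_pair]
        exact ha
      · refine (csnd_cone1Map z S.f _).trans ?_
        rw [csnd_pair]
        exact hb
    · rintro ⟨a, rfl⟩
      exact congrArg (fun t => (t.f n).hom a) (cone1Map_comp_zero z _ _ S.zero)
  exact { exact := h3, mono_f := h1, epi_g := h2 }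

/-- In a short exact sequence of complexes with acyclic first term the second map is a quasi-isomorphism. -/
lemma quasiIso_g {S : ShortComplex (CochainComplex (ModuleCat.{u} R) ℤ)} (hS : S.ShortExact)
    (h : ∀ i, IsZero (S.X₁.homology i)) : QuasiIso S.g := by
  rw [quasiIso_iff]
  intro i
  rw [quasiIsoAt_iff_isIso_homologyMap]
  have h1 : Mono (HomologicalComplex.homologyMap S.g i) :=
    (hS.homology_exact₂ i).mono_g ((h i).eq_of_src _ _)
  have h2 : Epi (HomologicalComplex.homologyMap S.g i) :=
    (hS.homology_exact₃ i (i + 1) (by simp)).epi_f ((h (i + 1)).eq_of_tgt _ _)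
  exact isIso_of_mono_of_epi _

/-- `cone1 z` of a complex on whose cohomology `z` acts bijectively is acyclic. -/
lemma isZero_cone1_of_bijective (z : R) (K : CochainComplex (ModuleCat.{u} R) ℤ)
    (h : ∀ i, Function.Bijective (fun m : K.homology i => z • m)) (i : ℤ) :
    IsZero ((cone1 z K).homology i) := by
  rw [isZero_homology_cone1_iff z K i (i + 1) rfl]
  constructor
  · rw [ModuleCat.epi_iff_surjective]
    exact (h i).2
  · rw [ModuleCat.mono_iff_injective]
    exact (h (i + 1)).1

/-- The cocone of the localisation at `g` becomes quasi-isomorphic to `K` after taking the cone of `g`. -/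
theorem nonempty_Q_cone1 (g : R) (K : DRing.Cx R) :
    Nonempty (DerivedCategory.Q.obj (cone1 g (mappingCocone (DerCA.locCxUnit (Submonoid.powers g) K))) ≅
      DerivedCategory.Q.obj (cone1 g K)) := by
  have hS : (mappingCone.triangleRotateShortComplex (DerCA.locCxUnit (Submonoid.powers g) K)).ShortExact :=
    HomologicalComplex.shortExact_of_degreewise_shortExact _ fun n =>
      (mappingCone.triangleRotateShortComplexSplitting (DerCA.locCxUnit (Submonoid.powers g) K) n).shortExact
  have hS' := hS.map_of_exact (shiftFunctor (CochainComplex (ModuleCat.{u} R) ℤ) (-1 : ℤ))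
  have h1 : QuasiIso (cone1Map g
      (((mappingCone.triangleRotateShortComplex (DerCA.locCxUnit (Submonoid.powers g) K)).map
        (shiftFunctor (CochainComplex (ModuleCat.{u} R) ℤ) (-1 : ℤ))).g)) := by
    refine quasiIso_g (shortExact_cone1 g hS') fun i => ?_
    refine isZero_cone1_of_bijective g _ (fun j => ?_) i
    let e : (((DerCA.locCx (Submonoid.powers g)).obj K)⟦(-1 : ℤ)⟧).homology j ≅
        ((DerCA.locCx (Submonoid.powers g)).obj K).homology (j - 1) :=
      (ShiftSequence.shiftIso (ModuleCat.{u} R) (-1) j (j - 1) (by lia)).app _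
    have h3 : Function.Bijective (fun m : ((DerCA.locCx (Submonoid.powers g)).obj K).homology (j - 1) => g • m) := by
      have h5 : Function.Bijective (fun m : LocalizedModule (Submonoid.powers g) (K.homology (j - 1)) => g • m) := by
        have h6 := IsLocalizedModule.map_units (S := Submonoid.powers g)
          (LocalizedModule.mkLinearMap (Submonoid.powers g) (K.homology (j - 1))) ⟨g, Submonoid.mem_powers g⟩
        exact (Module.End.isUnit_iff _).1 h6
      let e' : ((DerCA.locCx (Submonoid.powers g)).obj K).homology (j - 1) ≃ₗ[R]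
          LocalizedModule (Submonoid.powers g) (K.homology (j - 1)) :=
        (homLoc (Submonoid.powers g) K (j - 1)).toLinearEquiv
      have h7 : (fun m : ((DerCA.locCx (Submonoid.powers g)).obj K).homology (j - 1) => g • m) =
          e'.symm ∘ (fun m : LocalizedModule (Submonoid.powers g) (K.homology (j - 1)) => g • m) ∘ e' := by
        ext m
        simp
      rw [h7]
      exact e'.symm.bijective.comp (h5.comp e'.bijective)
    have h4 : (fun m : (((DerCA.locCx (Submonoid.powers g)).obj K)⟦(-1 : ℤ)⟧).homology j => g • m) =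
        e.toLinearEquiv.symm ∘ (fun m : ((DerCA.locCx (Submonoid.powers g)).obj K).homology (j - 1) => g • m) ∘
          e.toLinearEquiv := by
      ext m
      simp
    change Function.Bijective (fun m : (((DerCA.locCx (Submonoid.powers g)).obj K)⟦(-1 : ℤ)⟧).homology j => g • m)
    rw [h4]
    exact e.toLinearEquiv.symm.bijective.comp (h3.comp e.toLinearEquiv.bijective)
  have h2 : IsIso (DerivedCategory.Q.map (cone1Map g
      (((mappingCone.triangleRotateShortComplex (DerCA.locCxUnit (Submonoid.powers g) K)).map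
        (shiftFunctor (CochainComplex (ModuleCat.{u} R) ℤ) (-1 : ℤ))).g))) :=
    (DerivedCategory.isIso_Q_map_iff_quasiIso _ _).2 h1
  exact ⟨@asIso _ _ _ _ _ h2 ≪≫ DerivedCategory.Q.mapIso (cone1Iso g (shiftShiftNeg K (1 : ℤ)))⟩

/-- Koszul complexes on a list containing `g` do not see the localisation at `g`. -/
theorem nonempty_Q_kos (l : List R) (g : R) (hg : g ∈ l) (K : DRing.Cx R) :
    Nonempty (DerivedCategory.Q.obj (kos l (mappingCocone (DerCA.locCxUnit (Submonoid.powers g) K))) ≅
      DerivedCategory.Q.obj (kos l K)) := by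
  obtain ⟨s, t, rfl⟩ := List.append_of_mem hg
  have hp : (s ++ g :: t).Perm ((s ++ t) ++ [g]) := by
    refine List.perm_middle.trans ?_
    exact (List.perm_append_singleton g (s ++ t)).symm
  obtain ⟨e₁⟩ := nonempty_kosIso_of_perm hp (mappingCocone (DerCA.locCxUnit (Submonoid.powers g) K))
  obtain ⟨e₂⟩ := nonempty_kosIso_of_perm hp K
  obtain ⟨e₃⟩ := nonempty_Q_kos_iso (s ++ t) (nonempty_Q_cone1 g K)
  refine ⟨DerivedCategory.Q.mapIso e₁ ≪≫ ?_ ≪≫ DerivedCategory.Q.mapIso e₂.symm⟩
  rw [kos_append (s ++ t) [g], kos_append (s ++ t) [g]]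
  exact e₃

/-- The Koszul complex on `l` of the extended Čech complex for `gs ⊆ l`. -/
theorem nonempty_Q_kos_extCech (l : List R) (M : ModuleCat.{u} R) (gs : List R) (h : ∀ g ∈ gs, g ∈ l) :
    Nonempty (DerivedCategory.Q.obj (kos l (DerCA.extCech M gs)) ≅
      DerivedCategory.Q.obj (kos l (sgl M))) := by
  induction gs with
  | nil => exact ⟨Iso.refl _⟩
  | cons g gs ih =>
    obtain ⟨e₁⟩ := nonempty_Q_kos l g (h g List.mem_cons_self) (DerCA.extCech M gs)
    obtain ⟨e₂⟩ := ih fun f hf => h f (List.mem_cons_of_mem _ hf)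
    exact ⟨e₁ ≪≫ e₂⟩

lemma pTors_cone1 (f g : R) (K : DRing.Cx R) (h : ∀ i, PTors f (K.homology i)) (i : ℤ) :
    PTors f ((cone1 g K).homology i) := by
  intro x
  have h1 := cone_exact₃ (g • 𝟙 K) i (i + 1) rfl
  rw [ShortComplex.ShortExact.moduleCat_exact_iff_function_exact] at h1
  obtain ⟨n, hn⟩ := h (i + 1) ((coneδ (g • 𝟙 K) i (i + 1) rfl).hom x)
  rw [← map_smul] at hn
  obtain ⟨y, hy⟩ := (h1 _).1 hn
  change (HomologicalComplex.homologyMap (mappingCone.inr (g • 𝟙 K)) i).hom y = _ at hy
  obtain ⟨m, hm⟩ := h i y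
  refine ⟨m + n, ?_⟩
  rw [pow_add, mul_smul, ← hy, ← map_smul, hm, map_zero]

lemma pTors_kos (f : R) (l : List R) (K : DRing.Cx R) (h : ∀ i, PTors f (K.homology i)) (i : ℤ) :
    PTors f ((kos l K).homology i) := by
  induction l generalizing i with
  | nil => exact h i
  | cons g l ih => exact pTors_cone1 f g _ ih i

/-- Vanishing of Koszul cohomology of a complex with torsion cohomology. -/
theorem isZero_of_isZero_kos (l : List R) (K : DRing.Cx R) (h : ∀ f ∈ l, ∀ i, PTors f (K.homology i))
    (i : ℤ) (h0 : IsZero ((kos l K).homology i)) : IsZero (K.homology (i + l.length)) := by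
  induction l generalizing i with
  | nil => simpa using h0
  | cons f l ih =>
    rw [kos_cons, isZero_homology_cone1_iff f _ i (i + 1) rfl] at h0
    have h1 := (ModuleCat.mono_iff_injective _).1 h0.2
    have h2 : IsZero ((kos l K).homology (i + 1)) := by
      rw [isZero_iff_subsingleton]
      refine subsingleton_of_forall_eq 0 fun x => ?_
      obtain ⟨n, hn⟩ := pTors_kos f l K (h f List.mem_cons_self) (i + 1) x
      induction n with
      | zero => simpa using hn
      | succ n ih' =>
        apply ih'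
        apply h1
        change f • f ^ n • x = f • (0 : (kos l K).homology (i + 1))
        rw [smul_zero, smul_smul, ← pow_succ', hn]
    have h3 := ih (fun g hg => h g (List.mem_cons_of_mem _ hg)) (i + 1) h2
    have h4 : i + 1 + (l.length : ℤ) = i + ((f :: l).length : ℤ) := by
      rw [List.length_cons]; push_cast; ring
    rwa [h4] at h3

theorem isZero_of_koszulRegular (fs : List R) (hfs : LCI.IsKoszulRegularSeq R fs) (q : ℤ)
    (hq : q ≠ (fs.length : ℤ)) : IsZero (DerCA.extCechH fs (ModuleCat.of R R) q) := by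
  have h1 := isZero_of_isZero_kos fs (DerCA.extCech (ModuleCat.of R R) fs)
    (fun f hf i => pTors_extCechH (ModuleCat.of R R) fs f hf i) (q - fs.length)
  rw [sub_add_cancel] at h1
  refine h1 ?_
  obtain ⟨e⟩ := nonempty_homology_iso_of_Q_iso
    (nonempty_Q_kos_extCech fs (ModuleCat.of R R) fs fun g hg => hg) (q - fs.length)
  refine IsZero.of_iso ?_ e
  rw [isKoszulRegularSeq_iff] at hfs
  exact hfs _ (by lia)

end K365.CechKos
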