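import Groth.Agent.LocCoh.K171.CechRows

/-!
# Torsion and amplitude of the extended Čech complex

* `isZero_of_length_lt`: vanishing above the length of the list.
* `exists_pow_smul`: cohomology classes are killed by a power of every member of the list.
* `isZero_of_mem_span`: if an element of the ideal acts bijectively, the cohomology vanishes.
-/

set_option autoImplicit false
universe u
open CategoryTheory CategoryTheory.Limits

namespace K365.CechTors

attribute [local instance] HasDerivedCategory.standard

open K171.Cech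

variable {R : Type u} [CommRing R]

theorem isZero_of_length_lt (M : ModuleCat.{u} R) (fs : List R) (q : ℤ) (hq : (fs.length : ℤ) < q) :
    IsZero (DerCA.extCechH fs M q) := by
  induction fs generalizing q with
  | nil => exact HomologicalComplex.isZero_single_obj_homology _ _ _ _ (by simpa using hq.ne')
  | cons f fs ih =>
    rw [List.length_cons, Nat.cast_succ] at hq
    refine isZero_cocone _ _ (q - 1) q (by lia) ?_ ?_
    · have := (isZero_iff_subsingleton _).1
        (isZero_homology_locCx (Submonoid.powers f) _ (q - 1) (ih (q - 1) (by lia)))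
      exact fun z => ⟨0, Subsingleton.elim _ _⟩
    · have := (isZero_iff_subsingleton _).1 (ih q (by lia))
      exact fun z w _ => Subsingleton.elim (α := (DerCA.extCech M fs).homology q) z w

/-- every element of `N` is killed by a power of `f` -/
def PTors (f : R) (N : Type u) [AddCommGroup N] [Module R N] : Prop := ∀ x : N, ∃ n : ℕ, f ^ n • x = 0

lemma pTors_of_localized (f : R) (S : Submonoid R) (N : Type u) [AddCommGroup N] [Module R N]
    (h : PTors f N) : PTors f (LocalizedModule S N) := by
  intro x
  induction x using LocalizedModule.induction_on with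
  | h a s =>
    obtain ⟨n, hn⟩ := h a
    refine ⟨n, ?_⟩
    rw [LocalizedModule.smul'_mk, hn, LocalizedModule.zero_mk]

lemma PTors.of_linearEquiv {f : R} {N N' : Type u} [AddCommGroup N] [Module R N] [AddCommGroup N']
    [Module R N'] (h : PTors f N) (e : N ≃ₗ[R] N') : PTors f N' := by
  intro x
  obtain ⟨n, hn⟩ := h (e.symm x)
  refine ⟨n, ?_⟩
  apply e.symm.injective
  rw [map_smul, hn, map_zero]

lemma pTors_homology_locCx (f : R) (S : Submonoid R) (K : DRing.Cx R) (q : ℤ)
    (h : PTors f (K.homology q)) : PTors f (((DerCA.locCx S).obj K).homology q) :=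
  (pTors_of_localized f S _ h).of_linearEquiv (homLoc S K q).toLinearEquiv.symm

lemma pTors_cocone_of (f : R) {K L : DRing.Cx R} (φ : K ⟶ L) (q : ℤ)
    (hK : PTors f (K.homology q)) (hL : PTors f (L.homology (q - 1))) :
    PTors f ((CochainComplex.mappingCocone φ).homology q) := by
  intro x
  obtain ⟨n, hn⟩ := hK ((HomologicalComplex.homologyMap (CochainComplex.mappingCocone.fst φ) q).hom x)
  rw [← map_smul] at hn
  obtain ⟨z, hz⟩ := (exact_C φ (q - 1) q (by lia) _).1 hn
  obtain ⟨m, hm⟩ := hL z
  refine ⟨m + n, ?_⟩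
  rw [pow_add, mul_smul, ← hz, ← map_smul, hm, map_zero]

/-- the cocone of the localisation map is power torsion -/
lemma pTors_cocone_self (f : R) (K : DRing.Cx R) (q : ℤ) :
    PTors f ((CochainComplex.mappingCocone (DerCA.locCxUnit (Submonoid.powers f) K)).homology q) := by
  intro x
  have h1 := (exact_K (DerCA.locCxUnit (Submonoid.powers f) K) q).apply_apply_eq_zero x
  obtain ⟨s, ⟨n, rfl⟩, hs⟩ := (homologyMap_locCxUnit_eq_zero_iff (Submonoid.powers f) K q _).1 h1
  change f ^ n • _ = 0 at hs
  rw [← map_smul] at hs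
  obtain ⟨z, hz⟩ := (exact_C (DerCA.locCxUnit (Submonoid.powers f) K) (q - 1) q (by lia) _).1 hs
  -- a power of `f` times `z` comes from `H^{q-1}(K)`
  obtain ⟨m, y, hy⟩ : ∃ (m : ℕ) (y : K.homology (q - 1)),
      (HomologicalComplex.homologyMap (DerCA.locCxUnit (Submonoid.powers f) K) (q - 1)).hom y =
        f ^ m • z := by
    have h3 : Function.Bijective (homLoc (Submonoid.powers f) K (q - 1)).hom.hom :=
      (homLoc (Submonoid.powers f) K (q - 1)).toLinearEquiv.bijective
    have h4 : ∀ x, (homLoc (Submonoid.powers f) K (q - 1)).hom.hom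
      ((HomologicalComplex.homologyMap (DerCA.locCxUnit (Submonoid.powers f) K) (q - 1)).hom x)
      = LocalizedModule.mkLinearMap (Submonoid.powers f) (K.homology (q - 1)) x := fun x =>
      congrArg (fun t => t.hom x) (homLoc_comp (Submonoid.powers f) K (q - 1))
    obtain ⟨⟨y, ⟨_, m, rfl⟩⟩, hy⟩ := IsLocalizedModule.surj (Submonoid.powers f)
      (LocalizedModule.mkLinearMap (Submonoid.powers f) (K.homology (q - 1)))
      ((homLoc (Submonoid.powers f) K (q - 1)).hom.hom z)
    refine ⟨m, y, h3.1 ?_⟩
    rw [h4, map_smul, ← hy]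
    rfl
  refine ⟨m + n, ?_⟩
  rw [pow_add, mul_smul, ← hz, ← map_smul, ← hy]
  exact (exact_L (DerCA.locCxUnit (Submonoid.powers f) K) (q - 1) q (by lia)).apply_apply_eq_zero y

theorem pTors_extCechH (M : ModuleCat.{u} R) (fs : List R) (f : R) (hf : f ∈ fs) (q : ℤ) :
    PTors f (DerCA.extCechH fs M q) := by
  induction fs generalizing q with
  | nil => simp at hf
  | cons g gs ih =>
    rcases List.mem_cons.1 hf with rfl | hf
    · exact pTors_cocone_self f _ q
    · exact pTors_cocone_of f _ q (ih hf q) (pTors_homology_locCx f _ _ _ (ih hf (q - 1)))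

theorem exists_pow_smul (M : ModuleCat.{u} R) (fs : List R) (q : ℤ) (x : DerCA.extCechH fs M q) :
    ∃ n : ℕ, 1 ≤ n ∧ ∀ f ∈ fs, (f ^ n) • x = 0 := by
  have h : ∀ gs : List R, (∀ f ∈ gs, PTors f (DerCA.extCechH fs M q)) →
      ∃ n : ℕ, 1 ≤ n ∧ ∀ f ∈ gs, (f ^ n) • x = 0 := by
    intro gs
    induction gs with
    | nil => exact fun _ => ⟨1, le_rfl, by simp⟩
    | cons g gs ih =>
      intro h
      obtain ⟨n, hn, hn'⟩ := ih fun f hf => h f (List.mem_cons_of_mem _ hf)
      obtain ⟨m, hm⟩ := h g List.mem_cons_self x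
      refine ⟨m + n, by lia, fun f hf => ?_⟩
      rcases List.mem_cons.1 hf with rfl | hf
      · rw [add_comm, pow_add, mul_smul, hm, smul_zero]
      · rw [pow_add, mul_smul, hn' f hf, smul_zero]
  exact h fs fun f hf => pTors_extCechH M fs f hf q

theorem isZero_of_mem_span (M : ModuleCat.{u} R) (fs : List R) (f : R)
    (hf : f ∈ Ideal.span {a : R | a ∈ fs}) (hbij : Function.Bijective (fun m : M => f • m)) (q : ℤ) :
    IsZero (DerCA.extCechH fs M q) := by
  rw [isZero_iff_subsingleton]
  refine subsingleton_of_forall_eq 0 fun x => ?_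
  -- `f` has a power killing `x`
  have h1 : f ∈ (Ideal.torsionOf R (DerCA.extCechH fs M q) x).radical := by
    refine (Ideal.span_le.2 ?_ : Ideal.span {a : R | a ∈ fs} ≤ _) hf
    intro g hg
    obtain ⟨n, hn⟩ := pTors_extCechH M fs g hg q x
    exact ⟨n, hn⟩
  obtain ⟨n, hn⟩ := h1
  rw [Ideal.mem_torsionOf_iff] at hn
  have h2 := (smul_bijective f M fs hbij q).1
  induction n with
  | zero => simpa using hn
  | succ n ih =>
    apply ih
    apply h2
    change f • f ^ n • x = f • (0 : DerCA.extCechH fs M q)
    rw [smul_zero, smul_smul, ← pow_succ', hn]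

end K365.CechTors
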