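import Groth.Agent.DerCA.K365.PCRestrict
import Groth.Agent.PerfA.Devissage
import Groth.Agent.LoccohB.Devissage
import Groth.Agent.LoccohB.PCNoeth

/-!
# `m`-pseudo-coherence: direct sums, termwise and cohomological criteria

* `pc_biprod`, `pc_of_biprod` : direct sums and direct summands.
* `pc_single_iff` : `M[-i]` is `m`-pseudo-coherent iff `M` is `(m - i)`-pseudo-coherent.
* `pc_of_termwise`, `pc_of_homology`.
* `pcModule_zero_iff`, `pcModule_neg_one_iff` : finite / finitely presented modules.
* `pc_iff_of_noetherian`.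
-/

set_option autoImplicit false

universe u

open CategoryTheory CategoryTheory.Limits CategoryTheory.Pretriangulated ZeroObject

attribute [local instance] HasDerivedCategory.standard

namespace K365.Dev

open K365.PCRestrict Groth.Agent Groth.Agent.CalgB.PsCohGen Groth.Agent.CalgB.PsCoh

section Product

variable {C : Type*} [Category* C] [Preadditive C] [HasBinaryBiproducts C]

/-- A product over two indices is a biproduct. -/
noncomputable def prodIso (F : WalkingPair → C) [HasProduct F] : ∏ᶜ F ≅ F .left ⊞ F .right where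
  hom := biprod.lift (Pi.π F .left) (Pi.π F .right)
  inv := Pi.lift (fun j => WalkingPair.casesOn (motive := fun j => (F .left ⊞ F .right ⟶ F j)) j
    biprod.fst biprod.snd)
  hom_inv_id := by
    apply Limits.Pi.hom_ext
    rintro (_ | _)
    · simp
    · simp
  inv_hom_id := by
    apply biprod.hom_ext
    · simp
    · simp

end Product

variable {A : Type u} [CommRing A]

theorem pc_biprod {K L : Dual.D A} {m : ℤ} (hK : DRing.IsPseudoCoherent A m K) (hL : DRing.IsPseudoCoherent A m L) :
    DRing.IsPseudoCoherent A m (K ⊞ L) :=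
  PC.obj₂ (isProjClass_ffree A) (binaryBiproductTriangle_distinguished K L) hK hL

lemma pc_of_biprod_aux (n : ℕ) : ∀ (m b : ℤ) (_ : b < m + n) (K L : Dual.D A) (_ : K.IsLE b) (_ : L.IsLE b)
    (_ : DRing.IsPseudoCoherent A m (K ⊞ L)), DRing.IsPseudoCoherent A m K ∧ DRing.IsPseudoCoherent A m L := by
  induction n with
  | zero =>
    intro m b hb K L hK hL _
    push_cast at hb
    exact ⟨PerfB.DescRing.pc_of_isZero fun i hi => DerivedCategory.isZero_of_isLE K b i (by omega),
      PerfB.DescRing.pc_of_isZero fun i hi => DerivedCategory.isZero_of_isLE L b i (by omega)⟩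
  | succ n ih =>
    intro m b hb K L hK hL hKL
    push_cast at hb
    rcases lt_or_ge b m with hbm | hbm
    · exact ⟨PerfB.DescRing.pc_of_isZero fun i hi => DerivedCategory.isZero_of_isLE K b i (by omega),
        PerfB.DescRing.pc_of_isZero fun i hi => DerivedCategory.isZero_of_isLE L b i (by omega)⟩
    have hle : (K ⊞ L).IsLE b :=
      CalgB.DerTri.isLE_obj₂ (binaryBiproductTriangle_distinguished K L) b hK hL
    have hfin := finite_homology_top (PerfB.DescRing.pc_mono hbm hKL) hle
    have hf1 : Module.Finite A ((DerivedCategory.homologyFunctor (ModuleCat.{u} A) b).obj K) :=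
      Module.Finite.of_surjective ((DerivedCategory.homologyFunctor (ModuleCat.{u} A) b).map
        (biprod.fst : K ⊞ L ⟶ K)).hom ((ModuleCat.epi_iff_surjective _).1 inferInstance)
    have hf2 : Module.Finite A ((DerivedCategory.homologyFunctor (ModuleCat.{u} A) b).obj L) :=
      Module.Finite.of_surjective ((DerivedCategory.homologyFunctor (ModuleCat.{u} A) b).map
        (biprod.snd : K ⊞ L ⟶ L)).hom ((ModuleCat.epi_iff_surjective _).1 inferInstance)
    have key : ∀ K : Dual.D A, K.IsLE b →
        Module.Finite A ((DerivedCategory.homologyFunctor (ModuleCat.{u} A) b).obj K) →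
        ∃ (T : Triangle (Dual.D A)), T ∈ distinguishedTriangles ∧ T.obj₂ = K ∧
          (∀ m, DRing.IsPseudoCoherent A m T.obj₁) ∧ T.obj₃.IsLE (b - 1) := by
      intro K hK hf
      obtain ⟨E, α, hE1, hE2, hα⟩ := PerfB.DescRing.exists_top_cover K b hf
      obtain ⟨N, β, γ, hT⟩ := distinguished_cocone_triangle α
      have hE3 : (DRing.toD E).IsLE b := by
        have hE : E.IsStrictlyLE b := (CochainComplex.isStrictlyLE_iff _ _).2 fun i hi => hE1 i (Or.inr hi)
        infer_instance
      have hC := PerfB.DescRing.isZero_cone _ hT b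
        (fun i hi => DerivedCategory.isZero_of_isLE (DRing.toD E) b i hi)
        (fun i hi => DerivedCategory.isZero_of_isLE K b i hi) hα
      exact ⟨_, hT, rfl, fun m => PerfB.DescRing.pc_toD E hE1 hE2 m, (DerivedCategory.isLE_iff N (b - 1)).2 hC⟩
    obtain ⟨T₁, hT₁, rfl, hE₁, hN₁⟩ := key K hK hf1
    obtain ⟨T₂, hT₂, rfl, hE₂, hN₂⟩ := key L hL hf2
    let T : WalkingPair → Triangle (Dual.D A) := fun j => WalkingPair.casesOn j T₁ T₂
    have hT : ∀ j, T j ∈ distinguishedTriangles := by
      rintro (_ | _)
      · exact hT₁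
      · exact hT₂
    have hP := productTriangle_distinguished T hT
    have e₁ : (productTriangle T).obj₁ ≅ T₁.obj₁ ⊞ T₂.obj₁ := prodIso (fun j => (T j).obj₁)
    have e₂ : (productTriangle T).obj₂ ≅ T₁.obj₂ ⊞ T₂.obj₂ := prodIso (fun j => (T j).obj₂)
    have e₃ : (productTriangle T).obj₃ ≅ T₁.obj₃ ⊞ T₂.obj₃ := prodIso (fun j => (T j).obj₃)
    have h₃ : DRing.IsPseudoCoherent A m (T₁.obj₃ ⊞ T₂.obj₃) :=
      PerfB.DescRing.pc_of_iso e₃ (PC.obj₃ (isProjClass_ffree A) hP rfl
        (PerfB.DescRing.pc_of_iso e₁.symm (pc_biprod (hE₁ _) (hE₂ _)))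
        (PerfB.DescRing.pc_of_iso e₂.symm hKL))
    obtain ⟨h4, h5⟩ := ih m (b - 1) (by omega) _ _ hN₁ hN₂ h₃
    exact ⟨PC.obj₂ (isProjClass_ffree A) hT₁ (hE₁ m) h4, PC.obj₂ (isProjClass_ffree A) hT₂ (hE₂ m) h5⟩

/-- Direct summands. -/
theorem pc_of_biprod {K L : Dual.D A} {m : ℤ} (h : DRing.IsPseudoCoherent A m (K ⊞ L)) :
    DRing.IsPseudoCoherent A m K ∧ DRing.IsPseudoCoherent A m L := by
  obtain ⟨b, hb⟩ := PC.exists_isLE (P := ffree A) h
  have key : ∀ {X : Dual.D A} (r : Retract X (K ⊞ L)), X.IsLE b := fun r => by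
    rw [DerivedCategory.isLE_iff] at hb ⊢
    intro i hi
    exact IsZero.of_mono ((DerivedCategory.homologyFunctor (ModuleCat.{u} A) i).map r.i) (hb i hi)
  refine pc_of_biprod_aux (b - m + 1).toNat m b ?_ K L (key ⟨biprod.inl, biprod.fst, by simp⟩)
    (key ⟨biprod.inr, biprod.snd, by simp⟩) h
  have := Int.self_le_toNat (b - m + 1)
  omega

/-- `M[-i]`. -/
theorem pc_single_iff (M : ModuleCat.{u} A) (i m : ℤ) :
    DRing.IsPseudoCoherent A m ((DerivedCategory.singleFunctor (ModuleCat.{u} A) i).obj M) ↔
      DRing.IsPseudoCoherent A (m - i) ((DerivedCategory.singleFunctor (ModuleCat.{u} A) 0).obj M) := by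
  have e : ((DerivedCategory.singleFunctor (ModuleCat.{u} A) 0).obj M)⟦(-i)⟧ ≅
      (DerivedCategory.singleFunctor (ModuleCat.{u} A) i).obj M :=
    ((DerivedCategory.singleFunctors (ModuleCat.{u} A)).shiftIso (-i) i 0 (by simp)).app M
  constructor
  · intro h
    have h' := PerfB.DescRing.pc_of_iso e.symm h
    exact PC.of_shift (P := ffree A) (-i) (m - i) m (by omega) h'
  · intro h
    exact PerfB.DescRing.pc_of_iso e (PC.shift (P := ffree A) h (-i) m (by omega))

/-- Termwise criterion. -/
theorem pc_of_termwise (K : DRing.Cx A) (b m : ℤ) (hb : ∀ i, b < i → IsZero (K.X i))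
    (h : ∀ i, m ≤ i → DRing.IsPseudoCoherent A m ((DerivedCategory.singleFunctor (ModuleCat.{u} A) i).obj (K.X i))) :
    DRing.IsPseudoCoherent A m (DerivedCategory.Q.obj K) := by
  obtain ⟨N, β, γ, hΔ⟩ := distinguished_cocone_triangle (DerivedCategory.Q.map (CalgB.DerTri.sgeHom K m))
  have hN : N.IsLE (m - 1) := by
    refine (CalgB.DerTri.isLE_obj₃_iff hΔ m (m - 1) (by omega)).2 ⟨fun i hi => ?_, ?_⟩
    · exact (CalgB.DerTri.isIso_homologyFunctor_map_Q_iff (CalgB.DerTri.sgeHom K m) i).2
        (CalgB.DerTri.quasiIsoAt_sgeHom K m i hi)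
    · exact (CalgB.DerTri.epi_homologyFunctor_map_Q_iff (CalgB.DerTri.sgeHom K m) m).2
        (CalgB.DerTri.epi_homologyMap_sgeHom K m)
  refine PC.obj₂ (isProjClass_ffree A) hΔ ?_ (PC.of_isLE (isProjClass_ffree A) hN)
  refine PerfA.Devissage.devissage (fun X => PC (ffree A) m X) (fun e h => h.of_iso e)
    (fun T hT h1 h3 => PC.obj₂ (isProjClass_ffree A) hT h1 h3)
    (fun X hX => PerfB.DescRing.pc_of_isZero fun i _ =>
      (DerivedCategory.homologyFunctor (ModuleCat.{u} A) i).map_isZero hX) _ m b ?_ ?_
  · rintro i (hi | hi)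
    · exact CalgB.DerTri.sge_isZero K m i hi
    · by_cases h' : m ≤ i
      · exact IsZero.of_iso (hb i hi) (CalgB.DerTri.sgeXIso K m i h')
      · exact CalgB.DerTri.sge_isZero K m i (by omega)
  · intro i hi _
    exact PerfB.DescRing.pc_of_iso ((DerivedCategory.singleFunctor (ModuleCat.{u} A) i).mapIso
      (CalgB.DerTri.sgeXIso K m i hi).symm) (h i hi)

/-- Cohomological criterion. -/
theorem pc_of_homology (K : Dual.D A) (b m : ℤ) [hb : K.IsLE b]
    (h : ∀ i, m ≤ i → DRing.IsPseudoCoherent A m ((DerivedCategory.singleFunctor (ModuleCat.{u} A) i).obj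
      ((DerivedCategory.homologyFunctor (ModuleCat.{u} A) i).obj K))) :
    DRing.IsPseudoCoherent A m K := by
  obtain ⟨T, hT, rfl, h1, h3, hi1, hi3⟩ := LoccohB.Devissage.exists_trunc K (m - 1) m (by omega)
  refine PC.obj₂ (isProjClass_ffree A) hT (PC.of_isLE (isProjClass_ffree A) h1) ?_
  rcases lt_or_ge b m with hbm | hbm
  · have : T.obj₃.IsLE (m - 1) := by
      rw [DerivedCategory.isLE_iff]
      intro i hi
      have := hi3 i (by omega)
      exact (T.obj₂.isZero_of_isLE b i (by omega)).of_iso
        (asIso ((DerivedCategory.homologyFunctor _ i).map T.mor₂)).symm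
    exact PC.of_isLE (isProjClass_ffree A) this
  have hLE : T.obj₃.IsLE b := by
    rw [DerivedCategory.isLE_iff]
    intro i hi
    have := hi3 i (by omega)
    exact (T.obj₂.isZero_of_isLE b i hi).of_iso
      (asIso ((DerivedCategory.homologyFunctor _ i).map T.mor₂)).symm
  let P : ObjectProperty (Dual.D A) := fun X => PC (ffree A) m X
  have hP : P.IsClosedUnderIsomorphisms := ⟨fun e h => h.of_iso e⟩
  refine LoccohB.Devissage.devissage P (fun X hX => PerfB.DescRing.pc_of_isZero fun i _ =>
      (DerivedCategory.homologyFunctor (ModuleCat.{u} A) i).map_isZero hX)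
    (fun T hT h1 h3 => PC.obj₂ (isProjClass_ffree A) hT h1 h3) T.obj₃ m b (fun i => ?_)
  rcases lt_or_ge i m with hi | hi
  · refine PerfB.DescRing.pc_of_isZero fun j _ => ?_
    exact (DerivedCategory.homologyFunctor (ModuleCat.{u} A) j).map_isZero
      ((DerivedCategory.singleFunctor (ModuleCat.{u} A) i).map_isZero (T.obj₃.isZero_of_isGE m i hi))
  · have := hi3 i hi
    exact PerfB.DescRing.pc_of_iso ((DerivedCategory.singleFunctor (ModuleCat.{u} A) i).mapIso
      (asIso ((DerivedCategory.homologyFunctor _ i).map T.mor₂))) (h i hi)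

/-- `0`-pseudo-coherent modules are the finite ones. -/
theorem pcModule_zero_iff (M : ModuleCat.{u} A) :
    DRing.IsPseudoCoherent A 0 ((DerivedCategory.singleFunctor (ModuleCat.{u} A) 0).obj M) ↔ Module.Finite A M := by
  have e : (DerivedCategory.homologyFunctor (ModuleCat.{u} A) 0).obj
      ((DerivedCategory.singleFunctor (ModuleCat.{u} A) 0).obj M) ≅ M :=
    (DerivedCategory.singleFunctorCompHomologyFunctorIso (ModuleCat.{u} A) 0).app M
  have hle : ((DerivedCategory.singleFunctor (ModuleCat.{u} A) 0).obj M).IsLE 0 := inferInstance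
  constructor
  · intro h
    have := finite_homology_top h hle
    exact Module.Finite.equiv e.toLinearEquiv
  · intro h
    have hf := Module.Finite.equiv e.symm.toLinearEquiv
    obtain ⟨E, α, hE1, hE2, hα⟩ := PerfB.DescRing.exists_top_cover _ 0 hf
    exact ⟨E, 0, 0, α, hE1, hE2, fun i hi => by
      have h1 : IsZero ((DerivedCategory.homologyFunctor (ModuleCat.{u} A) i).obj (DRing.toD E)) := by
        have hE : E.IsStrictlyLE 0 := (CochainComplex.isStrictlyLE_iff _ _).2 fun i hi => hE1 i (Or.inr hi)
        exact (DRing.toD E).isZero_of_isLE 0 i hi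
      have h2 : IsZero ((DerivedCategory.homologyFunctor (ModuleCat.{u} A) i).obj
        ((DerivedCategory.singleFunctor (ModuleCat.{u} A) 0).obj M)) := DerivedCategory.isZero_of_isLE _ 0 i hi
      exact ⟨0, h1.eq_of_src _ _, h2.eq_of_src _ _⟩, hα⟩

/-- `(-1)`-pseudo-coherent modules are the finitely presented ones. -/
theorem pcModule_neg_one_iff (M : ModuleCat.{u} A) :
    DRing.IsPseudoCoherent A (-1) ((DerivedCategory.singleFunctor (ModuleCat.{u} A) 0).obj M) ↔
      Module.FinitePresentation A M := by
  have e : (DerivedCategory.homologyFunctor (ModuleCat.{u} A) 0).obj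
      ((DerivedCategory.singleFunctor (ModuleCat.{u} A) 0).obj M) ≅ M :=
    (DerivedCategory.singleFunctorCompHomologyFunctorIso (ModuleCat.{u} A) 0).app M
  have hle : ((DerivedCategory.singleFunctor (ModuleCat.{u} A) 0).obj M).IsLE 0 := inferInstance
  constructor
  · intro h
    have := finitePresentation_homology_top (m' := 0) (by omega) h hle
    exact Module.FinitePresentation.of_equiv e.toLinearEquiv
  · intro h
    obtain ⟨n, f, hf⟩ := Module.Finite.exists_fin' A M
    have hf' := Module.FinitePresentation.fg_ker f hf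
    let F : ModuleCat.{u} A := ModuleCat.of A (Fin n → A)
    let S : ShortComplex (ModuleCat.{u} A) :=
      ShortComplex.mk (ModuleCat.ofHom (LinearMap.ker f).subtype : ModuleCat.of A (LinearMap.ker f) ⟶ F)
        (ModuleCat.ofHom f : F ⟶ M) (by
          apply ModuleCat.hom_ext
          apply LinearMap.ext
          intro x
          exact x.2)
    have hS : S.ShortExact :=
      { exact := by
          rw [ShortComplex.ShortExact.moduleCat_exact_iff_function_exact]
          intro x
          exact ⟨fun hx => ⟨⟨x, hx⟩, rfl⟩, by rintro ⟨y, rfl⟩; exact y.2⟩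
        mono_f := by
          rw [ModuleCat.mono_iff_injective]
          exact Subtype.val_injective
        epi_g := by
          rw [ModuleCat.epi_iff_surjective]
          exact hf }
    have h1 : DRing.IsPseudoCoherent A 0 ((DerivedCategory.singleFunctor (ModuleCat.{u} A) 0).obj S.X₁) :=
      (pcModule_zero_iff _).2 (Module.Finite.iff_fg.2 hf')
    have h2 : DRing.IsPseudoCoherent A (-1) ((DerivedCategory.singleFunctor (ModuleCat.{u} A) 0).obj S.X₂) :=
      PC.single (isProjClass_ffree A) ⟨inferInstanceAs (Module.Finite A (Fin n → A)),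
        inferInstanceAs (Module.Free A (Fin n → A))⟩ 0 _
    exact PC.obj₃ (isProjClass_ffree A) hS.singleTriangle_distinguished (by omega) h1 h2

/-- Noetherian rings. -/
theorem pc_iff_of_noetherian [IsNoetherianRing A] (K : Dual.D A) (m : ℤ) :
    DRing.IsPseudoCoherent A m K ↔ (∃ b : ℤ, K.IsLE b) ∧
      ∀ i, m ≤ i → Module.Finite A ((DerivedCategory.homologyFunctor (ModuleCat.{u} A) i).obj K) := by
  constructor
  · intro h
    refine ⟨PC.exists_isLE (P := ffree A) h, fun i hi => ?_⟩
    obtain ⟨E, a, b, α, hE, hEP, h1, h2⟩ := h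
    have hepi : Epi ((DerivedCategory.homologyFunctor (ModuleCat.{u} A) i).map α) := by
      rcases hi.eq_or_lt with rfl | hi
      · exact h2
      · have := h1 i hi
        infer_instance
    have hE1 : Module.Finite A (E.homology i) := by
      obtain ⟨h3, -⟩ := hEP i
      have h4 : IsNoetherian A (E.X i) := isNoetherian_of_isNoetherianRing_of_finite A _
      have h5 : IsNoetherian A (E.cycles i) :=
        isNoetherian_of_injective (E.iCycles i).hom ((ModuleCat.mono_iff_injective _).1 inferInstance)
      exact Module.Finite.of_surjective (E.homologyπ i).hom ((ModuleCat.epi_iff_surjective _).1 inferInstance)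
    have hE2 : Module.Finite A ((DerivedCategory.homologyFunctor (ModuleCat.{u} A) i).obj (DerivedCategory.Q.obj E)) :=
      LoccohB.ConeRes.finite_of_iso ((DerivedCategory.homologyFunctorFactors _ i).symm.app E) hE1
    exact Module.Finite.of_surjective ((DerivedCategory.homologyFunctor (ModuleCat.{u} A) i).map α).hom
      ((ModuleCat.epi_iff_surjective _).1 hepi)
  · rintro ⟨⟨b, hb⟩, h⟩
    refine pc_of_homology K b m fun i hi => ?_
    rw [pc_single_iff]
    have hf := h i hi
    have := LoccohB.PCNoeth.isPseudoCoherent'_of_noetherian (A := A)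
      ((DerivedCategory.singleFunctor (ModuleCat.{u} A) 0).obj
        ((DerivedCategory.homologyFunctor (ModuleCat.{u} A) i).obj K)) 0 (fun j => by
        by_cases hj : j = 0
        · subst hj
          exact LoccohB.ConeRes.finite_of_iso ((DerivedCategory.singleFunctorCompHomologyFunctorIso
            (ModuleCat.{u} A) 0).symm.app ((DerivedCategory.homologyFunctor (ModuleCat.{u} A) i).obj K)) hf
        · apply LoccohB.ConeRes.finite_of_isZero
          rcases lt_or_gt_of_ne hj with hj | hj
          · exact DerivedCategory.isZero_of_isGE _ 0 j hj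
          · exact DerivedCategory.isZero_of_isLE _ 0 j hj)
    exact (forall_PC_iff (isProjClass_ffree A) _).2 this _

end K365.Dev
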