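import Groth.Agent.DerCA.K365.Hom
import Groth.Agent.LoccohB.BeckChev
import Mathlib.RingTheory.TensorProduct.MvPolynomial

/-!
# Flat base change and pseudo-coherence of restrictions

For a pushout square `C → C'`, `B → B'` with `C → C'` flat:
* `pc_restrict_flatBC` : `K ∈ D(B)` `m`-pseudo-coherent over `C` gives `K ⊗_B B'` `m`-pseudo-coherent over `C'`.
* `pcMap_baseChange` : `PCMap (C → B)` gives `PCMap (C' → B')`.
* `pcMap_mvPolynomial_map`.
-/

set_option autoImplicit false

universe u

open CategoryTheory CategoryTheory.Limits CategoryTheory.Pretriangulated ZeroObject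

attribute [local instance] HasDerivedCategory.standard

namespace K365.Flat

open K365.PCRestrict K365.Poly K365.Rel K365.Hom Groth.Agent Groth.Agent.LoccohB

/-- Flat base change preserves `m`-pseudo-coherence. -/
theorem pc_flatBC {A B : Type u} [CommRing A] [CommRing B] (φ : A →+* B) (h : φ.Flat) {K : Dual.D A} {m : ℤ}
    (hK : DRing.IsPseudoCoherent A m K) : DRing.IsPseudoCoherent B m ((FlatLBC.flatBC φ h).obj K) :=
  haveI := ModuleCat.preservesFiniteLimits_extendScalars_of_flat h
  PerfB.DescRing.pc_baseChange φ hK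

section Square

variable (C C' B B' : Type u) [CommRing C] [CommRing C'] [CommRing B] [CommRing B']
  [Algebra C C'] [Algebra C B] [Algebra C' B'] [Algebra B B'] [Algebra C B']
  [IsScalarTower C C' B'] [IsScalarTower C B B'] [Algebra.IsPushout C C' B B']

theorem pc_restrict_flatBC (h : (algebraMap C C').Flat) (h' : (algebraMap B B').Flat) {K : Dual.D B} {m : ℤ}
    (hK : DRing.IsPseudoCoherent C m ((DRing.restrictD (algebraMap C B)).obj K)) :
    DRing.IsPseudoCoherent C' m ((DRing.restrictD (algebraMap C' B')).obj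
      ((FlatLBC.flatBC (algebraMap B B') h').obj K)) :=
  PerfB.DescRing.pc_of_iso ((BeckChev.bcDIso C C' B B' h h').app K) (pc_flatBC _ h hK)

/-- `B[0] ⊗_B B' = B'[0]`. -/
noncomputable def flatBCSelf {B B' : Type u} [CommRing B] [CommRing B'] (φ : B →+* B') (h' : φ.Flat) :
    (FlatLBC.flatBC φ h').obj (Dual.inD B B) ≅ Dual.inD B' B' :=
  (FlatLBC.flatBCSingle φ h' 0).app (ModuleCat.of B B) ≪≫
    (DerivedCategory.singleFunctor (ModuleCat.{u} B') 0).mapIso (LBC.extendSelfIso φ)

theorem pcMap_baseChange (h : (algebraMap C C').Flat) (h' : (algebraMap B B').Flat)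
    (hB : PCMap (algebraMap C B)) : PCMap (algebraMap C' B') := by
  rw [pcMap_iff_module] at hB ⊢
  intro m
  exact PerfB.DescRing.pc_of_iso ((DRing.restrictD (algebraMap C' B')).mapIso (flatBCSelf _ h'))
    (pc_restrict_flatBC C C' B B' h h' (hB m))

end Square

lemma flat_mvPolynomial (σ : Type) (A : Type u) [CommRing A] : (algebraMap A (MvPolynomial σ A)).Flat := by
  rw [RingHom.flat_algebraMap_iff]
  infer_instance

section MvPolynomial

attribute [local instance] MvPolynomial.algebraMvPolynomial

/-- Polynomial rings. -/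
theorem pcMap_mvPolynomial_map {C B : Type u} [CommRing C] [CommRing B] (σ : Type) (ψ : C →+* B) (h : PCMap ψ) :
    PCMap (MvPolynomial.map ψ : MvPolynomial σ C →+* MvPolynomial σ B) := by
  let := ψ.toAlgebra
  exact pcMap_baseChange C (MvPolynomial σ C) B (MvPolynomial σ B) (flat_mvPolynomial σ C)
    (flat_mvPolynomial σ B) h

theorem pc_mvPolynomial_map {C B : Type u} [CommRing C] [CommRing B] (σ : Type) (ψ : C →+* B) {K : Dual.D B} {m : ℤ}
    (hK : DRing.IsPseudoCoherent C m ((DRing.restrictD ψ).obj K)) :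
    DRing.IsPseudoCoherent (MvPolynomial σ C) m ((DRing.restrictD (MvPolynomial.map ψ)).obj
      ((FlatLBC.flatBC (algebraMap B (MvPolynomial σ B)) (flat_mvPolynomial σ B)).obj K)) := by
  let := ψ.toAlgebra
  exact pc_restrict_flatBC C (MvPolynomial σ C) B (MvPolynomial σ B) (flat_mvPolynomial σ C)
    (flat_mvPolynomial σ B) hK

end MvPolynomial

/-- Pseudo-coherence relative to a pseudo-coherent intermediate algebra. -/
theorem rel_iff_of_tower {R A B : Type u} [CommRing R] [CommRing A] [CommRing B] [Algebra R A] [Algebra A B]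
    [Algebra R B] [IsScalarTower R A B] [Algebra.FiniteType R A] [Algebra.FiniteType A B]
    (hA : DerCA.IsRelPseudoCoherentModuleAll R A A) (K : Dual.D B) (m : ℤ) :
    DerCA.IsRelPseudoCoherent A B m K ↔ DerCA.IsRelPseudoCoherent R B m K := by
  obtain ⟨n, α, hα⟩ := Algebra.FiniteType.iff_quotient_mvPolynomial''.1 (inferInstance : Algebra.FiniteType R A)
  obtain ⟨k, β, hβ⟩ := Algebra.FiniteType.iff_quotient_mvPolynomial''.1 (inferInstance : Algebra.FiniteType A B)
  have h1 := pcMap_of_relModuleAll hA α (RingHom.Finite.of_surjective _ hα)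
  have h2 := pcMap_mvPolynomial_map (Fin k) (α : MvPolynomial (Fin n) R →+* A) h1
  let θ : MvPolynomial (Fin k) (MvPolynomial (Fin n) R) →ₐ[R] B :=
    (β.restrictScalars R).comp (MvPolynomial.mapAlgHom α)
  have hθ : Function.Surjective θ :=
    hβ.comp (MvPolynomial.map_surjective (α : MvPolynomial (Fin n) R →+* A) hα)
  rw [rel_iff_of_surjective β hβ, rel_iff_iter θ hθ]
  exact (h2.iff_comp (β : MvPolynomial (Fin k) A →+* B) _ rfl K m).symm

end K365.Flat
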