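import Groth.Agent.DerCA.K365.Rel

/-!
# Pseudo-coherent ring maps and relative pseudo-coherence

* `pcMap_algebraMap_iff` : `PCMap (algebraMap C B)` iff `B` is a pseudo-coherent `C`-module.
* `isRelPseudoCoherentModuleAll_self_iff` : `A` is a pseudo-coherent `R`-algebra iff the maps from polynomial rings are `PCMap`.
* `rel_iff_of_pcMap` : over a presentation `θ` with `PCMap θ`, relative pseudo-coherence is pseudo-coherence.
* `forall_iff` : `K` is pseudo-coherent iff it is `m`-pseudo-coherent for all `m`.
-/

set_option autoImplicit false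

universe u

open CategoryTheory CategoryTheory.Limits CategoryTheory.Pretriangulated ZeroObject

attribute [local instance] HasDerivedCategory.standard

namespace K365.Hom

open K365.PCRestrict K365.Poly K365.Rel Groth.Agent Groth.Agent.CalgB.PsCohGen Groth.Agent.CalgB.PsCoh

variable {C B : Type u} [CommRing C] [CommRing B]

theorem forall_iff (K : Dual.D C) : (∀ m, DRing.IsPseudoCoherent C m K) ↔ DRing.IsPseudoCoherent' C K :=
  forall_PC_iff (isProjClass_ffree C) K

/-- restriction of an `B`-module along `C → B` in two ways. -/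
noncomputable def modIso (C B : Type u) [CommRing C] [CommRing B] [Algebra C B] (M : Type u) [AddCommGroup M]
    [Module B M] [Module C M] [IsScalarTower C B M] :
    ModuleCat.of C M ≅ (ModuleCat.restrictScalars.{u} (algebraMap C B)).obj (ModuleCat.of B M) where
  hom := ModuleCat.ofHom (X := ModuleCat.of C M)
    (Y := (ModuleCat.restrictScalars.{u} (algebraMap C B)).obj (ModuleCat.of B M))
    { toFun := fun x => (x : M)
      map_add' := fun _ _ => rfl
      map_smul' := fun a b => algebra_compatible_smul (M := M) B a b }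
  inv := ModuleCat.ofHom (X := (ModuleCat.restrictScalars.{u} (algebraMap C B)).obj (ModuleCat.of B M))
    (Y := ModuleCat.of C M)
    { toFun := fun x => (x : M)
      map_add' := fun _ _ => rfl
      map_smul' := fun a b => (algebra_compatible_smul (M := M) B a b).symm }

/-- `B` as a module over `C` in two ways. -/
noncomputable def selfIso (C B : Type u) [CommRing C] [CommRing B] [Algebra C B] :
    ModuleCat.of C B ≅ (ModuleCat.restrictScalars.{u} (algebraMap C B)).obj (ModuleCat.of B B) :=
  modIso C B B

theorem pcMap_algebraMap_iff [Algebra C B] : PCMap (algebraMap C B) ↔ DRing.IsPseudoCoherentModule' C B := by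
  unfold DRing.IsPseudoCoherentModule'
  rw [← forall_iff]
  refine forall_congr' fun m => ⟨fun h => ?_, fun h => ?_⟩
  · exact PC.of_iso ((DerivedCategory.singleFunctor (ModuleCat.{u} C) 0).mapIso (selfIso C B).symm) h
  · exact PC.of_iso ((DerivedCategory.singleFunctor (ModuleCat.{u} C) 0).mapIso (selfIso C B)) h

/-- The statement on modules, for an arbitrary ring map. -/
theorem pcMap_iff_isPseudoCoherentModule' (ψ : C →+* B) : PCMap ψ ↔
    letI := ψ.toAlgebra
    DRing.IsPseudoCoherentModule' C B := by
  let := ψ.toAlgebra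
  exact pcMap_algebraMap_iff

/-- Pseudo-coherent restriction, both forms. -/
theorem iff_restrict [Algebra C B] (hB : DRing.IsPseudoCoherentModule' C B) (K : Dual.D B) (m : ℤ) :
    (DRing.IsPseudoCoherent B m K ↔ DRing.IsPseudoCoherent C m ((DRing.restrictD (algebraMap C B)).obj K)) ∧
      (DRing.IsPseudoCoherent' B K ↔ DRing.IsPseudoCoherent' C ((DRing.restrictD (algebraMap C B)).obj K)) := by
  have h := pcMap_algebraMap_iff.2 hB
  refine ⟨h.iff.symm, ?_⟩
  rw [← forall_iff, ← forall_iff]
  exact forall_congr' fun m => h.iff.symm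

variable {R A : Type u} [CommRing R] [CommRing A] [Algebra R A]

/-- Over a pseudo-coherent presentation, relative pseudo-coherence is pseudo-coherence. -/
theorem rel_iff_of_pcMap {n : ℕ} (θ : MvPolynomial (Fin n) R →ₐ[R] A)
    (hθ : (θ : MvPolynomial (Fin n) R →+* A).Finite) (h : PCMap (θ : MvPolynomial (Fin n) R →+* A))
    (K : Dual.D A) (m : ℤ) : DerCA.IsRelPseudoCoherent R A m K ↔ DRing.IsPseudoCoherent A m K := by
  rw [rel_iff_of_finite θ hθ]
  exact h.iff

/-- If `A` is pseudo-coherent relative to `R`, every finite map from a polynomial ring is a `PCMap`. -/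
theorem pcMap_of_relModuleAll (hA : DerCA.IsRelPseudoCoherentModuleAll R A A) {n : ℕ}
    (θ : MvPolynomial (Fin n) R →ₐ[R] A) (hθ : (θ : MvPolynomial (Fin n) R →+* A).Finite) :
    PCMap (θ : MvPolynomial (Fin n) R →+* A) := by
  rw [pcMap_iff_module]
  intro m
  exact (rel_iff_of_finite θ hθ _ m).1 (hA m)

theorem relModuleAll_of_pcMap {n : ℕ} (θ : MvPolynomial (Fin n) R →ₐ[R] A)
    (hθ : (θ : MvPolynomial (Fin n) R →+* A).Finite) (h : PCMap (θ : MvPolynomial (Fin n) R →+* A)) :
    DerCA.IsRelPseudoCoherentModuleAll R A A := by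
  intro m
  rw [rel_iff_of_finite θ hθ]
  exact (pcMap_iff_module _).1 h m

/-- Test relative pseudo-coherence on any intermediate ring `P`, pseudo-coherent relative to `R`, with `P → A` finite. -/
theorem rel_iff_of_intermediate {P : Type u} [CommRing P] [Algebra R P] [Algebra.FiniteType R P]
    (hP : DerCA.IsRelPseudoCoherentModuleAll R P P) (π : P →ₐ[R] A) (hπ : (π : P →+* A).Finite) (K : Dual.D A) (m : ℤ) :
    DerCA.IsRelPseudoCoherent R A m K ↔ DRing.IsPseudoCoherent P m ((DRing.restrictD (π : P →+* A)).obj K) := by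
  obtain ⟨n, α, hα⟩ := Algebra.FiniteType.iff_quotient_mvPolynomial''.1 (inferInstance : Algebra.FiniteType R P)
  have h1 := pcMap_of_relModuleAll hP α (RingHom.Finite.of_surjective _ hα)
  let θ : MvPolynomial (Fin n) R →ₐ[R] A := π.comp α
  have hθ : (θ : MvPolynomial (Fin n) R →+* A).Finite :=
    RingHom.Finite.comp (f := (α : MvPolynomial (Fin n) R →+* P)) hπ (RingHom.Finite.of_surjective _ hα)
  rw [rel_iff_of_finite θ hθ]
  exact h1.iff_comp _ _ rfl K m

end K365.Hom
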