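import Groth.Agent.DerCA.K365.Tens
import Groth.Agent.Flat2H.PCFinal
import Groth.Agent.Flat2H.FlatPC2
import Mathlib.RingTheory.Flat.Localization

/-!
# Relative pseudo-coherence and localization

* `relModuleAll_of_flat` : a flat finitely presented algebra is pseudo-coherent relative to the base.
* `rel_flatBC` : base change along a flat finitely presented algebra.
* `rel_of_away` : relative pseudo-coherence is local.
-/

set_option autoImplicit false

universe u

open CategoryTheory CategoryTheory.Limits CategoryTheory.Pretriangulated ZeroObject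

attribute [local instance] HasDerivedCategory.standard

namespace K365.Loc

open K365.PCRestrict K365.Poly K365.Rel K365.Hom K365.Flat K365.Tens Groth.Agent Groth.Agent.LoccohB

theorem exists_pcMap_of_flat (R A : Type u) [CommRing R] [CommRing A] [Algebra R A] [Module.Flat R A]
    [Algebra.FinitePresentation R A] : ∃ (n : ℕ) (φ : MvPolynomial (Fin n) R →ₐ[R] A), Function.Surjective φ ∧
      PCMap (φ : MvPolynomial (Fin n) R →+* A) := by
  obtain ⟨n, φ, hφ, h⟩ := Flat2H.isPseudoCoherentHom_iff.2 (Flat2H.PCHom.of_flat R A)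
  exact ⟨n, φ, hφ, (pcMap_iff_isPseudoCoherentModule' φ.toRingHom).2 h⟩

theorem relModuleAll_of_flat (R A : Type u) [CommRing R] [CommRing A] [Algebra R A] [Module.Flat R A]
    [Algebra.FinitePresentation R A] : DerCA.IsRelPseudoCoherentModuleAll R A A := by
  obtain ⟨n, φ, hφ, h⟩ := exists_pcMap_of_flat R A
  exact relModuleAll_of_pcMap φ (RingHom.Finite.of_surjective _ hφ) h

/-- Flat base change, for an algebra which is pseudo-coherent relative to `A`. -/
theorem rel_flatBC {R A B : Type u} [CommRing R] [CommRing A] [CommRing B] [Algebra R A] [Algebra A B] [Algebra R B]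
    [IsScalarTower R A B] [Algebra.FiniteType R A] [Algebra.FiniteType A B]
    (hB : DerCA.IsRelPseudoCoherentModuleAll A B B) (h : (algebraMap A B).Flat) (K : Dual.D A) (m : ℤ)
    (hK : DerCA.IsRelPseudoCoherent R A m K) :
    DerCA.IsRelPseudoCoherent R B m ((FlatLBC.flatBC (algebraMap A B) h).obj K) := by
  have := LBC.hasLBaseChange (algebraMap A B)
  obtain ⟨n, φ, hφ, h'⟩ := rel_lbc hB K m hK
  exact ⟨n, φ, hφ, PerfB.DescRing.pc_of_iso ((DRing.restrictD (φ : MvPolynomial (Fin n) R →+* B)).mapIso
    ((FlatLBC.LBaseChangeIso _ h).app K)) h'⟩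

lemma rel_of_iso {R A : Type u} [CommRing R] [CommRing A] [Algebra R A] {K L : Dual.D A} (e : K ≅ L) {m : ℤ}
    (h : DerCA.IsRelPseudoCoherent R A m K) : DerCA.IsRelPseudoCoherent R A m L := by
  obtain ⟨n, φ, hφ, h'⟩ := h
  exact ⟨n, φ, hφ, PerfB.DescRing.pc_of_iso ((DRing.restrictD (φ : MvPolynomial (Fin n) R →+* A)).mapIso e) h'⟩

/-- `Q (K ⊗ B)` is the flat base change of `Q K`. -/
noncomputable def flatBCQ {A B : Type u} [CommRing A] [CommRing B] (φ : A →+* B) (h : φ.Flat) (K : DRing.Cx A) :
    (FlatLBC.flatBC φ h).obj (DRing.toD K) ≅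
      DRing.toD (((ModuleCat.extendScalars.{u, u, u} φ).mapHomologicalComplex (ComplexShape.up ℤ)).obj K) :=
  haveI := ModuleCat.preservesFiniteLimits_extendScalars_of_flat h
  (ModuleCat.extendScalars.{u, u, u} φ).mapDerivedCategoryFactors.app K

lemma flat_away {A : Type u} [CommRing A] (f : A) : (algebraMap A (Localization.Away f)).Flat := by
  rw [RingHom.flat_algebraMap_iff]
  exact IsLocalization.flat _ (Submonoid.powers f)

instance finitePresentation_away {A : Type u} [CommRing A] (f : A) :
    Algebra.FinitePresentation A (Localization.Away f) :=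
  IsLocalization.Away.finitePresentation f

theorem rel_away {R A : Type u} [CommRing R] [CommRing A] [Algebra R A] [Algebra.FiniteType R A] (f : A)
    (K : Dual.D A) (m : ℤ) (hK : DerCA.IsRelPseudoCoherent R A m K) :
    DerCA.IsRelPseudoCoherent R (Localization.Away f) m
      ((FlatLBC.flatBC (algebraMap A (Localization.Away f)) (flat_away f)).obj K) := by
  have : Module.Flat A (Localization.Away f) := IsLocalization.flat _ (Submonoid.powers f)
  exact rel_flatBC (relModuleAll_of_flat A (Localization.Away f)) (flat_away f) K m hK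

end K365.Loc
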