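import Groth.Agent.DerCA.K365.Loc

/-!
# Relative pseudo-coherence is local

* `rel_of_away` : if `f_1, …, f_r` generate the unit ideal of `A` and all `K_{f_i}` are `m`-pseudo-coherent relative to `R`,
  so is `K`.
-/

set_option autoImplicit false

universe u

open CategoryTheory CategoryTheory.Limits CategoryTheory.Pretriangulated ZeroObject

attribute [local instance] HasDerivedCategory.standard

namespace K365.Loc2

open K365.PCRestrict K365.Poly K365.Rel K365.Hom K365.Flat K365.Tens K365.Loc Groth.Agent Groth.Agent.LoccohB

/-- Restriction of scalars commutes with localization. -/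
theorem nonempty_away_iso {C B : Type u} [CommRing C] [CommRing B] (ψ : C →+* B) (g : C) (K : Dual.D B) :
    Nonempty ((FlatLBC.flatBC (algebraMap C (Localization.Away g)) (flat_away g)).obj ((DRing.restrictD ψ).obj K) ≅
      (DRing.restrictD (Localization.awayMap ψ g)).obj
        ((FlatLBC.flatBC (algebraMap B (Localization.Away (ψ g))) (flat_away (ψ g))).obj K)) := by
  let := ψ.toAlgebra
  let : Algebra (Localization.Away g) (Localization.Away (ψ g)) := (Localization.awayMap ψ g).toAlgebra
  have hst : IsScalarTower C (Localization.Away g) (Localization.Away (ψ g)) := by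
    refine IsScalarTower.of_algebraMap_eq fun x => ?_
    change algebraMap B (Localization.Away (ψ g)) (ψ x) =
      Localization.awayMap ψ g (algebraMap C (Localization.Away g) x)
    exact (IsLocalization.map_eq _ x).symm
  have hst' : IsScalarTower C B (Localization.Away (ψ g)) := inferInstance
  have h1 : IsLocalization (Algebra.algebraMapSubmonoid B (Submonoid.powers g)) (Localization.Away (ψ g)) := by
    rw [Algebra.algebraMapSubmonoid_powers]
    exact inferInstanceAs (IsLocalization (Submonoid.powers (ψ g)) (Localization (Submonoid.powers (ψ g))))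
  have h2 : Algebra.IsPushout C B (Localization.Away g) (Localization.Away (ψ g)) :=
    Algebra.isPushout_of_isLocalization (Submonoid.powers g) _ _ _
  have h3 : Algebra.IsPushout C (Localization.Away g) B (Localization.Away (ψ g)) := h2.symm
  exact ⟨(BeckChev.bcDIso C (Localization.Away g) B (Localization.Away (ψ g)) (flat_away g) (flat_away (ψ g))).app K⟩

/-- If `h` acts as zero on `K` the localization at `h` vanishes. -/
lemma isZero_away {C B : Type u} [CommRing C] [CommRing B] (ψ : C →+* B) (h : C) (hh : ψ h = 0) (K : Dual.D B) :
    IsZero ((FlatLBC.flatBC (algebraMap C (Localization.Away h)) (flat_away h)).obj ((DRing.restrictD ψ).obj K)) := by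
  obtain ⟨e⟩ := nonempty_away_iso ψ h K
  refine IsZero.of_iso ?_ e
  have : Subsingleton (Localization.Away (ψ h)) := by
    rw [hh]
    exact IsLocalization.subsingleton (M := Submonoid.powers (0 : B)) ⟨1, by simp⟩
  have hz : IsZero ((FlatLBC.flatBC (algebraMap B (Localization.Away (ψ h))) (flat_away (ψ h))).obj K) := by
    rw [IsZero.iff_id_eq_zero]
    have h1 : (1 : Localization.Away (ψ h)) = 0 := Subsingleton.elim _ _
    have h2 := one_smul (Localization.Away (ψ h))
      (𝟙 ((FlatLBC.flatBC (algebraMap B (Localization.Away (ψ h))) (flat_away (ψ h))).obj K))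
    rw [h1, zero_smul] at h2
    exact h2.symm
  exact (DRing.restrictD _).map_isZero hz

theorem rel_of_away {R A : Type u} [CommRing R] [CommRing A] [Algebra R A] [Algebra.FiniteType R A] {ι : Type}
    [Finite ι] (f : ι → A) (hf : Ideal.span (Set.range f) = ⊤) (K : Dual.D A) (m : ℤ)
    (hK : ∀ i, DerCA.IsRelPseudoCoherent R (Localization.Away (f i)) m
      ((FlatLBC.flatBC (algebraMap A (Localization.Away (f i))) (flat_away (f i))).obj K)) :
    DerCA.IsRelPseudoCoherent R A m K := by
  obtain ⟨n, α, hα⟩ := Algebra.FiniteType.iff_quotient_mvPolynomial''.1 (inferInstance : Algebra.FiniteType R A)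
  choose g hg using fun i => hα (f i)
  obtain rfl : (fun i => α (g i)) = f := funext hg
  rw [rel_iff_of_surjective α hα]
  -- an element of the kernel which generates the unit ideal together with the `g i`
  obtain ⟨h, hh, hspan⟩ : ∃ h : MvPolynomial (Fin n) R, α h = 0 ∧ Ideal.span (Set.range g) ⊔ Ideal.span {h} = ⊤ := by
    have h1 : (1 : A) ∈ Ideal.map (α : MvPolynomial (Fin n) R →+* A) (Ideal.span (Set.range g)) := by
      rw [Ideal.map_span, ← Set.range_comp]
      change (1 : A) ∈ Ideal.span (Set.range fun i => α (g i))
      rw [hf]
      trivial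
    obtain ⟨x, hx, hx1⟩ := (Ideal.mem_map_iff_of_surjective (α : MvPolynomial (Fin n) R →+* A) hα).1 h1
    refine ⟨1 - x, ?_, ?_⟩
    · rw [map_sub, map_one, sub_eq_zero]
      exact hx1.symm
    · rw [Ideal.eq_top_iff_one]
      have h1 : x + (1 - x) ∈ Ideal.span (Set.range g) ⊔ Ideal.span {1 - x} :=
        Ideal.add_mem _ (Ideal.mem_sup_left hx) (Ideal.mem_sup_right (Ideal.mem_span_singleton_self _))
      rwa [add_sub_cancel] at h1
  let G : Option ι → MvPolynomial (Fin n) R := fun j => j.elim h g
  have hex : ∀ j, PreservesFiniteLimits
      (ModuleCat.extendScalars.{u, u, u} (algebraMap (MvPolynomial (Fin n) R) (Localization.Away (G j)))) :=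
    fun j => ModuleCat.preservesFiniteLimits_extendScalars_of_flat (flat_away (G j))
  refine PerfB.DescRing.pc_descent_family (fun j => Localization.Away (G j))
    (fun j => algebraMap (MvPolynomial (Fin n) R) (Localization.Away (G j))) (fun j => flat_away (G j)) ?_ m _ ?_
  · intro p
    have h1 : ∃ j, G j ∉ p.asIdeal := by
      by_contra hcon
      push Not at hcon
      apply p.2.ne_top
      rw [eq_top_iff, ← hspan, sup_le_iff, Ideal.span_le, Ideal.span_singleton_le_iff_mem]
      refine ⟨?_, hcon none⟩
      rintro _ ⟨i, rfl⟩
      exact hcon (some i)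
    obtain ⟨j, hj⟩ := h1
    have h2 : p ∈ Set.range (PrimeSpectrum.comap (algebraMap (MvPolynomial (Fin n) R) (Localization.Away (G j)))) := by
      rw [PrimeSpectrum.localization_away_comap_range (Localization.Away (G j)) (G j)]
      exact hj
    obtain ⟨q, hq⟩ := h2
    exact ⟨j, q, hq⟩
  · rintro (_ | i)
    · have hz := isZero_away (α : MvPolynomial (Fin n) R →+* A) h hh K
      exact PerfB.DescRing.pc_of_isZero fun i _ => (DerivedCategory.homologyFunctor _ i).map_isZero hz
    · obtain ⟨e⟩ := nonempty_away_iso (α : MvPolynomial (Fin n) R →+* A) (g i) K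
      refine PerfB.DescRing.pc_of_iso e.symm ?_
      have : Module.Flat R (Localization.Away (g i)) := by
        have : Module.Flat (MvPolynomial (Fin n) R) (Localization.Away (g i)) :=
          IsLocalization.flat _ (Submonoid.powers (g i))
        exact Module.Flat.trans R (MvPolynomial (Fin n) R) (Localization.Away (g i))
      have : Algebra.FinitePresentation R (Localization.Away (g i)) :=
        Algebra.FinitePresentation.trans R (MvPolynomial (Fin n) R) (Localization.Away (g i))
      let π : Localization.Away (g i) →ₐ[R] Localization.Away (α (g i)) :=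
        { Localization.awayMap (α : MvPolynomial (Fin n) R →+* A) (g i) with
          commutes' := fun r => by
            change Localization.awayMap (α : MvPolynomial (Fin n) R →+* A) (g i)
              (algebraMap R (Localization.Away (g i)) r) = _
            rw [IsScalarTower.algebraMap_apply R (MvPolynomial (Fin n) R) (Localization.Away (g i))]
            refine (IsLocalization.map_eq _ _).trans ?_
            rw [IsScalarTower.algebraMap_apply R A (Localization.Away (α (g i)))]
            congr 1
            exact α.commutes r }
      have hπ : Function.Surjective (Localization.awayMap (α : MvPolynomial (Fin n) R →+* A) (g i)) := by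
        rw [Localization.awayMap_surjective_iff]
        intro a
        obtain ⟨b, hb⟩ := hα a
        exact ⟨b, 0, by rw [pow_zero, one_mul]; exact hb⟩
      exact (rel_iff_of_intermediate (relModuleAll_of_flat R (Localization.Away (g i))) π
        (RingHom.Finite.of_surjective _ hπ) _ m).1 (hK i)

end K365.Loc2
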