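import Groth.Agent.LoccohB.PCChange
import Groth.Agent.PerfB.DescRing
import Groth.Agent.LoccohB.LBC2

/-!
# `m`-pseudo-coherence and restriction of scalars

`PCMap ψ` : the ring map `ψ : C → B` makes `B` a pseudo-coherent `C`-module.
* `pc_restrictD_iff` : if `PCMap ψ`, `K ∈ D(B)` is `m`-pseudo-coherent iff its restriction to `C` is.
* `PCMap.comp`, `PCMap.of_bijective`, `PCMap.of_finite_projective`, `PCMap.of_surjective_of_ker_span`.
-/

set_option autoImplicit false

universe u

open CategoryTheory CategoryTheory.Limits CategoryTheory.Pretriangulated ZeroObject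

attribute [local instance] HasDerivedCategory.standard

namespace K365.PCRestrict

open Groth.Agent.CalgB.PsCohGen Groth.Agent.CalgB.PsCoh Groth.Agent.LoccohB.PCChange
open Groth.Agent.LoccohB Groth.Agent

variable {C B : Type u} [CommRing C] [CommRing B] (ψ : C →+* B)

/-- `ψ : C → B` makes `B` a pseudo-coherent `C`-module. -/
def PCMap : Prop := PCMod C ((ModuleCat.restrictScalars.{u} ψ).obj (ModuleCat.of B B))

variable {ψ}

/-- Restriction along `ψ` preserves `m`-pseudo-coherence when `B` is pseudo-coherent over `C`. -/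
theorem PCMap.restrictD (hB : PCMap ψ) {K : Dual.D B} {m : ℤ} (hK : DRing.IsPseudoCoherent B m K) :
    DRing.IsPseudoCoherent C m ((DRing.restrictD ψ).obj K) := by
  have hK' : PC (ffree B) m K := hK
  obtain ⟨E, b, N, α, β, γ, hΔ, hE, hEP, hN⟩ := hK'.exists_triangle (isProjClass_ffree B)
  have hΔ' := (DRing.restrictD ψ).map_distinguished _ hΔ
  have hE' : T ψ (DerivedCategory.Q.obj E) :=
    PerfB.BoundedInd.bounded_induction (T ψ) E m b hE (fun i m =>
      ((pcMod_ffree ψ hB (hEP i)) m).of_iso (RAdjFin.restrictDSingle ψ 0 (E.X i)).symm)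
  exact PC.obj₂ (isProjClass_ffree C) hΔ' (hE' m)
    (PC.of_isLE (isProjClass_ffree C) ((isLE_restrictD_iff ψ N (m - 1)).2 hN))

/-- A complex of finite free modules in degrees `[a, b]`, restricted, is `m`-pseudo-coherent. -/
lemma PCMap.restrictD_toD (hB : PCMap ψ) (E : DRing.Cx B) {a b : ℤ} (h1 : DRing.VanishesOutside E a b)
    (h2 : DRing.TermwiseFiniteFree E) (m : ℤ) :
    DRing.IsPseudoCoherent C m ((DRing.restrictD ψ).obj (DRing.toD E)) :=
  hB.restrictD (PerfB.DescRing.pc_toD E h1 h2 m)

theorem PCMap.of_restrictD_aux (hB : PCMap ψ) (n : ℕ) : ∀ (m b : ℤ) (_ : b < m + n) (K : Dual.D B) (_ : K.IsLE b)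
    (_ : DRing.IsPseudoCoherent C m ((DRing.restrictD ψ).obj K)), DRing.IsPseudoCoherent B m K := by
  induction n with
  | zero =>
    intro m b hb K hK _
    exact PerfB.DescRing.pc_of_isZero fun i hi => DerivedCategory.isZero_of_isLE K b i (by push_cast at hb; omega)
  | succ n ih =>
    intro m b hb K hK hKC
    rcases lt_or_ge b m with hbm | hbm
    · exact PerfB.DescRing.pc_of_isZero fun i hi => DerivedCategory.isZero_of_isLE K b i (by omega)
    have hf : Module.Finite B ((DerivedCategory.homologyFunctor (ModuleCat.{u} B) b).obj K) := by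
      have h1 := finite_homology_top (PerfB.DescRing.pc_mono hbm hKC) ((isLE_restrictD_iff ψ K b).2 hK)
      have h2 : Module.Finite C ((ModuleCat.restrictScalars.{u} ψ).obj
          ((DerivedCategory.homologyFunctor (ModuleCat.{u} B) b).obj K)) :=
        Module.Finite.equiv (hRes ψ K b).toLinearEquiv
      let _ := Module.compHom ((DerivedCategory.homologyFunctor (ModuleCat.{u} B) b).obj K) ψ
      let _ := ψ.toAlgebra
      have : IsScalarTower C B ((DerivedCategory.homologyFunctor (ModuleCat.{u} B) b).obj K) :=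
        ⟨fun c b x => by rw [Algebra.smul_def, mul_smul]; rfl⟩
      have h3 : Module.Finite C ((DerivedCategory.homologyFunctor (ModuleCat.{u} B) b).obj K) := h2
      exact Module.Finite.of_restrictScalars_finite C B _
    obtain ⟨E, α, hE1, hE2, hα⟩ := PerfB.DescRing.exists_top_cover K b hf
    obtain ⟨N, β, γ, hT⟩ := distinguished_cocone_triangle α
    have hE3 : (DRing.toD E).IsLE b := by
      have hE : E.IsStrictlyLE b := (CochainComplex.isStrictlyLE_iff _ _).2 fun i hi => hE1 i (Or.inr hi)
      infer_instance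
    have hC := PerfB.DescRing.isZero_cone _ hT b
      (fun i hi => DerivedCategory.isZero_of_isLE (DRing.toD E) b i hi)
      (fun i hi => DerivedCategory.isZero_of_isLE K b i hi) hα
    have hT' := (DRing.restrictD ψ).map_distinguished _ hT
    have hN : DRing.IsPseudoCoherent B m N := by
      refine ih m (b - 1) (by push_cast at hb; omega) N ((DerivedCategory.isLE_iff N (b - 1)).2 hC) ?_
      exact PC.obj₃ (isProjClass_ffree C) hT' rfl (hB.restrictD_toD E hE1 hE2 (m + 1)) hKC
    exact PC.obj₂ (isProjClass_ffree B) hT (PerfB.DescRing.pc_toD E hE1 hE2 m) hN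

/-- Converse: if `B` is pseudo-coherent over `C` and the restriction of `K` is `m`-pseudo-coherent, so is `K`. -/
theorem PCMap.of_restrictD (hB : PCMap ψ) {K : Dual.D B} {m : ℤ}
    (hK : DRing.IsPseudoCoherent C m ((DRing.restrictD ψ).obj K)) : DRing.IsPseudoCoherent B m K := by
  obtain ⟨b, hb⟩ := PC.exists_isLE (P := ffree C) hK
  rw [isLE_restrictD_iff] at hb
  refine hB.of_restrictD_aux (b - m + 1).toNat m b ?_ K hb hK
  have := Int.self_le_toNat (b - m + 1)
  omega

theorem PCMap.iff (hB : PCMap ψ) {K : Dual.D B} {m : ℤ} :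
    DRing.IsPseudoCoherent C m ((DRing.restrictD ψ).obj K) ↔ DRing.IsPseudoCoherent B m K :=
  ⟨hB.of_restrictD, hB.restrictD⟩

variable (ψ) in
theorem pcMap_iff_module : PCMap ψ ↔ ∀ m : ℤ, DRing.IsPseudoCoherent C m ((DRing.restrictD ψ).obj (Dual.inD B B)) := by
  refine forall_congr' fun m => ⟨fun h => h.of_iso (RAdjFin.restrictDSingle ψ 0 (ModuleCat.of B B)).symm,
    fun h => PC.of_iso (RAdjFin.restrictDSingle ψ 0 (ModuleCat.of B B)) h⟩

variable (ψ) in
theorem pcMap_iff_module' : PCMap ψ ↔ DRing.IsPseudoCoherent' C ((DRing.restrictD ψ).obj (Dual.inD B B)) := by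
  rw [pcMap_iff_module]
  exact forall_PC_iff (isProjClass_ffree C) _

/-- Composites. -/
theorem PCMap.comp {A : Type u} [CommRing A] {φ : A →+* C} (hψ : PCMap ψ) (hφ : PCMap φ) :
    PCMap (ψ.comp φ) := by
  rw [pcMap_iff_module] at hψ ⊢
  intro m
  exact PerfB.DescRing.pc_of_iso ((LBC.restrictDComp φ ψ _ rfl).app _) (hφ.restrictD (hψ m))

/-- The restriction along a composite. -/
theorem pc_comp_iff {A : Type u} [CommRing A] (φ : A →+* C) (ψ : C →+* B) (χ : A →+* B) (h : χ = ψ.comp φ)
    (K : Dual.D B) (m : ℤ) :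
    DRing.IsPseudoCoherent A m ((DRing.restrictD χ).obj K) ↔
      DRing.IsPseudoCoherent A m ((DRing.restrictD φ).obj ((DRing.restrictD ψ).obj K)) :=
  ⟨PerfB.DescRing.pc_of_iso ((LBC.restrictDComp φ ψ χ h).symm.app K),
    PerfB.DescRing.pc_of_iso ((LBC.restrictDComp φ ψ χ h).app K)⟩

/-- Pseudo-coherence over a ring in the middle. -/
theorem PCMap.iff_comp {A : Type u} [CommRing A] {φ : A →+* C} (hφ : PCMap φ) (ψ : C →+* B) (χ : A →+* B)
    (h : χ = ψ.comp φ) (K : Dual.D B) (m : ℤ) :
    DRing.IsPseudoCoherent A m ((DRing.restrictD χ).obj K) ↔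
      DRing.IsPseudoCoherent C m ((DRing.restrictD ψ).obj K) := by
  rw [pc_comp_iff φ ψ χ h, hφ.iff]

/-- Finite projective algebras. -/
theorem PCMap.of_finite_projective (ψ : C →+* B)
    (h1 : Module.Finite C ((ModuleCat.restrictScalars.{u} ψ).obj (ModuleCat.of B B)))
    (h2 : Module.Projective C ((ModuleCat.restrictScalars.{u} ψ).obj (ModuleCat.of B B))) : PCMap ψ := by
  intro m
  have h : PC (fproj C) m ((DerivedCategory.singleFunctor (ModuleCat.{u} C) 0).obj
    ((ModuleCat.restrictScalars.{u} ψ).obj (ModuleCat.of B B))) :=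
    PC.single (isProjClass_fproj C) ⟨h1, h2⟩ 0 m
  exact (isPseudoCoherent_iff_fproj m _).2 h

/-- Ring isomorphisms. -/
theorem PCMap.of_bijective (ψ : C →+* B) (h : Function.Bijective ψ) : PCMap ψ := by
  let f : C →ₗ[C] ((ModuleCat.restrictScalars.{u} ψ).obj (ModuleCat.of B B)) :=
      { toFun := fun c => (ψ c : B)
        map_add' := fun a b => ψ.map_add a b
        map_smul' := fun a b => ψ.map_mul a b }
  let e : C ≃ₗ[C] ((ModuleCat.restrictScalars.{u} ψ).obj (ModuleCat.of B B)) := LinearEquiv.ofBijective f h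
  exact PCMap.of_finite_projective ψ (Module.Finite.equiv e) (Module.Projective.of_equiv e)

theorem PCMap.id (A : Type u) [CommRing A] : PCMap (RingHom.id A) :=
  PCMap.of_bijective _ Function.bijective_id

/-- `C → C/(t)` for a nonzerodivisor `t`. -/
theorem PCMap.of_surjective_of_ker (ψ : C →+* B) (hψ : Function.Surjective ψ) (t : C)
    (ht : ∀ x : C, t * x = 0 → x = 0) (hker : ∀ x : C, ψ x = 0 ↔ ∃ y, x = t * y) : PCMap ψ := by
  let X : ModuleCat.{u} C := ModuleCat.of C C
  let Y : ModuleCat.{u} C := (ModuleCat.restrictScalars.{u} ψ).obj (ModuleCat.of B B)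
  let f : X ⟶ X := ModuleCat.ofHom (LinearMap.mulLeft C t)
  let g : X ⟶ Y := ModuleCat.ofHom (Y := Y)
    { toFun := fun c => (ψ c : B)
      map_add' := fun a b => ψ.map_add a b
      map_smul' := fun a b => ψ.map_mul a b }
  have w : f ≫ g = 0 := by
    apply ModuleCat.hom_ext
    apply LinearMap.ext
    intro x
    exact (hker _).2 ⟨x, rfl⟩
  have hS : (ShortComplex.mk f g w).ShortExact :=
    { exact := by
        rw [ShortComplex.ShortExact.moduleCat_exact_iff_function_exact]
        intro x
        constructor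
        · intro hx
          obtain ⟨y, hy⟩ := (hker _).1 hx
          exact ⟨y, hy.symm⟩
        · rintro ⟨y, rfl⟩
          exact (hker _).2 ⟨y, rfl⟩
      mono_f := by
        rw [ModuleCat.mono_iff_injective]
        exact (injective_iff_map_eq_zero (LinearMap.mulLeft C t)).2 ht
      epi_g := by
        rw [ModuleCat.epi_iff_surjective]
        exact hψ }
  have hX : ∀ m, PC (ffree C) m ((DerivedCategory.singleFunctor (ModuleCat.{u} C) 0).obj X) := fun m =>
    PC.single (isProjClass_ffree C) ⟨inferInstanceAs (Module.Finite C C), inferInstanceAs (Module.Free C C)⟩ 0 m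
  intro m
  exact PC.obj₃ (isProjClass_ffree C) hS.singleTriangle_distinguished rfl (hX (m + 1)) (hX m)

end K365.PCRestrict
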