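import Groth.Agent.DerCA.K365.PCRestrict
import Mathlib.RingTheory.AdjoinRoot
import Mathlib.Algebra.MvPolynomial.Equiv
import Mathlib.RingTheory.IntegralClosure.IsIntegral.Basic

/-!
# Pseudo-coherence over polynomial rings mapping to an algebra by integral elements

* `one_var`, `multi_var` : for `φ : S → B`, `b_j ∈ B` integral over `S` and `K ∈ D(B)`: `K` is `m`-pseudo-coherent over
  `S` iff it is over `S[y_1, …, y_k]` (acting through `y_j ↦ b_j`).
-/

set_option autoImplicit false

universe u

open CategoryTheory CategoryTheory.Limits CategoryTheory.Pretriangulated ZeroObject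

attribute [local instance] HasDerivedCategory.standard

namespace K365.Poly

open K365.PCRestrict Groth.Agent

variable {S B : Type u} [CommRing S] [CommRing B]

/-- An algebra which is finite projective as a module. -/
lemma pcMap_of_finite_projective' {S T : Type u} [CommRing S] [CommRing T] [Algebra S T] [Module.Finite S T]
    [Module.Projective S T] (ψ : S →+* T) (h : ψ = algebraMap S T) : PCMap ψ := by
  subst h
  let f : T →ₗ[S] ((ModuleCat.restrictScalars.{u} (algebraMap S T)).obj (ModuleCat.of T T)) :=
      { toFun := fun c => (c : T)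
        map_add' := fun a b => rfl
        map_smul' := fun a b => Algebra.smul_def a b }
  let e : T ≃ₗ[S] ((ModuleCat.restrictScalars.{u} (algebraMap S T)).obj (ModuleCat.of T T)) :=
    LinearEquiv.ofBijective f Function.bijective_id
  exact PCMap.of_finite_projective _ (Module.Finite.equiv e) (Module.Projective.of_equiv e)

open Polynomial in
lemma pcMap_adjoinRoot_of (P : S[X]) (hP : P.Monic) : PCMap (AdjoinRoot.of P) := by
  have := hP.free_adjoinRoot
  have := hP.finite_adjoinRoot
  exact pcMap_of_finite_projective' _ rfl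

open Polynomial in
lemma pcMap_adjoinRoot_mk (P : S[X]) (hP : P ∈ nonZeroDivisors S[X]) : PCMap (AdjoinRoot.mk P) := by
  refine PCMap.of_surjective_of_ker _ AdjoinRoot.mk_surjective P (fun x hx => ?_) fun x => AdjoinRoot.mk_eq_zero
  exact (mem_nonZeroDivisors_iff_right.1 hP) x (by rw [mul_comm]; exact hx)

open Polynomial in
/-- One integral element. -/
theorem one_var (φ : S →+* B) (b : B) (hb : φ.IsIntegralElem b) (K : Dual.D B) (m : ℤ) :
    DRing.IsPseudoCoherent S m ((DRing.restrictD φ).obj K) ↔
      DRing.IsPseudoCoherent S[X] m ((DRing.restrictD (eval₂RingHom φ b)).obj K) := by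
  obtain ⟨P, hP, hPb⟩ := hb
  have h1 : φ = (AdjoinRoot.lift φ b hPb).comp (AdjoinRoot.of P) := (AdjoinRoot.lift_comp_of _).symm
  have h2 : eval₂RingHom φ b = (AdjoinRoot.lift φ b hPb).comp (AdjoinRoot.mk P) := by
    ext x
    · simp
    · simp
  rw [(pcMap_adjoinRoot_of P hP).iff_comp _ _ h1, (pcMap_adjoinRoot_mk P hP.mem_nonZeroDivisors).iff_comp _ _ h2]

/-- Any finite number of integral elements. -/
theorem multi_var (k : ℕ) (φ : S →+* B) (b : Fin k → B) (hb : ∀ j, φ.IsIntegralElem (b j)) (K : Dual.D B) (m : ℤ) :
    DRing.IsPseudoCoherent S m ((DRing.restrictD φ).obj K) ↔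
      DRing.IsPseudoCoherent (MvPolynomial (Fin k) S) m ((DRing.restrictD (MvPolynomial.eval₂Hom φ b)).obj K) := by
  induction k with
  | zero =>
    have h1 : φ = (MvPolynomial.eval₂Hom φ b).comp (MvPolynomial.C) := by
      ext x
      simp
    have hC : PCMap (MvPolynomial.C : S →+* MvPolynomial (Fin 0) S) :=
      PCMap.of_bijective _ ⟨MvPolynomial.C_injective _ _, MvPolynomial.C_surjective _⟩
    exact hC.iff_comp _ _ h1 K m
  | succ k ih =>
    let φ' : MvPolynomial (Fin k) S →+* B := MvPolynomial.eval₂Hom φ (fun j => b j.succ)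
    have hφ' : φ'.comp MvPolynomial.C = φ := by
      ext x
      simp [φ']
    rw [ih (fun j => b j.succ) fun j => hb j.succ]
    have hb0 : φ'.IsIntegralElem (b 0) := by
      obtain ⟨P, hP, hPb⟩ := hb 0
      refine ⟨P.map MvPolynomial.C, hP.map _, ?_⟩
      rw [Polynomial.eval₂_map, hφ', hPb]
    rw [one_var φ' (b 0) hb0]
    let e := (MvPolynomial.finSuccEquiv S k).toRingEquiv.toRingHom
    have he : PCMap e := PCMap.of_bijective _ (MvPolynomial.finSuccEquiv S k).bijective
    symm
    refine he.iff_comp _ _ ?_ K m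
    apply MvPolynomial.ringHom_ext
    · intro r
      simp [e, φ', MvPolynomial.finSuccEquiv_apply]
    · intro j
      refine Fin.cases ?_ (fun j => ?_) j
      · simp [e, φ', MvPolynomial.finSuccEquiv_apply]
      · simp [e, φ', MvPolynomial.finSuccEquiv_apply]

end K365.Poly
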