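import Groth.Agent.DerCA.K365.Poly
import Groth.Prelude.Def_DerCA
import Mathlib.RingTheory.FiniteType
import Mathlib.RingTheory.Finiteness.Cardinality

/-!
# Relative pseudo-coherence: independence of the presentation

* `via_iff` : two presentations give the same notion.
* `rel_iff_of_surjective`, `rel_iff_of_finite` : `IsRelPseudoCoherent R A m K` iff `K` is `m`-pseudo-coherent over
  `R[x_1, …, x_n]` acting through a surjective (resp. finite) map.
* `rel_iff_iter` : the same for `R[x_1, …, x_n][y_1, …, y_k] → A` surjective.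
-/

set_option autoImplicit false

universe u

open CategoryTheory CategoryTheory.Limits CategoryTheory.Pretriangulated ZeroObject

attribute [local instance] HasDerivedCategory.standard

namespace K365.Rel

open K365.PCRestrict K365.Poly Groth.Agent

variable {R A : Type u} [CommRing R] [CommRing A] [Algebra R A]

/-- surjective maps are integral -/
lemma isIntegralElem_of_surjective {S B : Type u} [CommRing S] [CommRing B] (φ : S →+* B)
    (h : Function.Surjective φ) (b : B) : φ.IsIntegralElem b := by
  obtain ⟨s, rfl⟩ := h b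
  exact φ.isIntegralElem_map

lemma isIntegralElem_of_finite {S B : Type u} [CommRing S] [CommRing B] (φ : S →+* B)
    (h : φ.Finite) (b : B) : φ.IsIntegralElem b := h.to_isIntegral b

/-- Independence of the presentation. -/
theorem via_iff {n k : ℕ} (α : MvPolynomial (Fin n) R →ₐ[R] A) (hα : (α : MvPolynomial (Fin n) R →+* A).Finite)
    (β : MvPolynomial (Fin k) R →ₐ[R] A) (hβ : (β : MvPolynomial (Fin k) R →+* A).Finite) (K : Dual.D A) (m : ℤ) :
    DerCA.IsRelPseudoCoherentVia α m K ↔ DerCA.IsRelPseudoCoherentVia β m K := by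
  unfold DerCA.IsRelPseudoCoherentVia
  rw [multi_var k (α : MvPolynomial (Fin n) R →+* A) (fun j => β (MvPolynomial.X j))
    (fun j => isIntegralElem_of_finite _ hα _),
    multi_var n (β : MvPolynomial (Fin k) R →+* A) (fun j => α (MvPolynomial.X j))
    (fun j => isIntegralElem_of_finite _ hβ _)]
  let e := (MvPolynomial.commAlgEquiv R (Fin k) (Fin n)).toRingEquiv.toRingHom
  have he : PCMap e := PCMap.of_bijective _ (MvPolynomial.commAlgEquiv R (Fin k) (Fin n)).bijective
  refine he.iff_comp _ _ ?_ K m
  apply MvPolynomial.ringHom_ext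
  · intro p
    have h : (α : MvPolynomial (Fin n) R →+* A) =
      ((MvPolynomial.eval₂Hom (β : MvPolynomial (Fin k) R →+* A) fun j => α (MvPolynomial.X j)).comp e).comp
        MvPolynomial.C := by
      apply MvPolynomial.ringHom_ext
      · intro r
        simp [e]
      · intro j
        simp [e]
    have h' := congrArg (fun f => f p) h
    simpa using h'
  · intro j
    simp [e]

/-- A finite map from a polynomial ring can be used to test relative pseudo-coherence. -/
theorem via_of_rel {n : ℕ} (θ : MvPolynomial (Fin n) R →ₐ[R] A) (hθ : (θ : MvPolynomial (Fin n) R →+* A).Finite)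
    {K : Dual.D A} {m : ℤ} (h : DerCA.IsRelPseudoCoherent R A m K) : DerCA.IsRelPseudoCoherentVia θ m K := by
  obtain ⟨k, α, hα, h⟩ := h
  exact (via_iff α (RingHom.Finite.of_surjective _ hα) θ hθ K m).1 h

theorem rel_iff_of_surjective {n : ℕ} (θ : MvPolynomial (Fin n) R →ₐ[R] A) (hθ : Function.Surjective θ)
    (K : Dual.D A) (m : ℤ) : DerCA.IsRelPseudoCoherent R A m K ↔ DerCA.IsRelPseudoCoherentVia θ m K :=
  ⟨via_of_rel θ (RingHom.Finite.of_surjective _ hθ), fun h => ⟨n, θ, hθ, h⟩⟩

/-- If some finite map from a polynomial ring exists, `A` is of finite type. -/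
lemma finiteType_of_finite {n : ℕ} (θ : MvPolynomial (Fin n) R →ₐ[R] A)
    (hθ : (θ : MvPolynomial (Fin n) R →+* A).Finite) : Algebra.FiniteType R A := by
  have h1 : (θ : MvPolynomial (Fin n) R →+* A).FiniteType := RingHom.FiniteType.of_finite hθ
  have h2 : (algebraMap R (MvPolynomial (Fin n) R)).FiniteType :=
    RingHom.finiteType_algebraMap.2 inferInstance
  have h3 := h1.comp h2
  have h4 : (θ : MvPolynomial (Fin n) R →+* A).comp (algebraMap R (MvPolynomial (Fin n) R)) = algebraMap R A :=
    θ.comp_algebraMap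
  rw [h4] at h3
  exact RingHom.finiteType_algebraMap.1 h3

theorem rel_iff_of_finite {n : ℕ} (θ : MvPolynomial (Fin n) R →ₐ[R] A)
    (hθ : (θ : MvPolynomial (Fin n) R →+* A).Finite) (K : Dual.D A) (m : ℤ) :
    DerCA.IsRelPseudoCoherent R A m K ↔ DerCA.IsRelPseudoCoherentVia θ m K := by
  refine ⟨via_of_rel θ hθ, fun h => ?_⟩
  have := finiteType_of_finite θ hθ
  obtain ⟨k, α, hα⟩ := Algebra.FiniteType.iff_quotient_mvPolynomial''.1 this
  exact ⟨k, α, hα, (via_iff θ hθ α (RingHom.Finite.of_surjective _ hα) K m).1 h⟩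

/-- `R[x_1, …, x_{k+n}] ≃ R[x_1, …, x_n][y_1, …, y_k]`. -/
noncomputable def iterEquiv (R : Type u) [CommRing R] (n k : ℕ) :
    MvPolynomial (Fin (k + n)) R ≃ₐ[R] MvPolynomial (Fin k) (MvPolynomial (Fin n) R) :=
  (MvPolynomial.renameEquiv R finSumFinEquiv.symm).trans (MvPolynomial.sumAlgEquiv R (Fin k) (Fin n))

/-- Relative pseudo-coherence tested on an iterated polynomial ring. -/
theorem rel_iff_iter {n k : ℕ} (θ : MvPolynomial (Fin k) (MvPolynomial (Fin n) R) →ₐ[R] A)
    (hθ : Function.Surjective θ) (K : Dual.D A) (m : ℤ) :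
    DerCA.IsRelPseudoCoherent R A m K ↔
      DRing.IsPseudoCoherent (MvPolynomial (Fin k) (MvPolynomial (Fin n) R)) m
        ((DRing.restrictD (θ : MvPolynomial (Fin k) (MvPolynomial (Fin n) R) →+* A)).obj K) := by
  rw [rel_iff_of_surjective (θ.comp (iterEquiv R n k).toAlgHom) (hθ.comp (iterEquiv R n k).surjective)]
  let e := (iterEquiv R n k).toRingEquiv.toRingHom
  have he : PCMap e := PCMap.of_bijective _ (iterEquiv R n k).bijective
  exact he.iff_comp _ _ rfl K m

end K365.Rel
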