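import Groth.Agent.DerCA.K365.Flat
import Groth.Agent.DerCA.K365.Dev
import Groth.Agent.Ega3B.TFunBC
import Groth.Agent.PerfB.RingKFlat

/-!
# Derived base change of relatively pseudo-coherent objects along relatively pseudo-coherent algebras

* `pc_tenFun` : `F` a bounded above complex of flat `S`-modules, `m`-pseudo-coherent over `P` (`P → S` any ring map), `M` a
  pseudo-coherent `S`-module: then `F ⊗_S M` is `m`-pseudo-coherent over `P`.
* `rel_lbc` : `R → A → B` of finite type, `B` pseudo-coherent relative to `A`, `K ∈ D(A)` `m`-pseudo-coherent relative to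
  `R`: `K ⊗^L_A B` is `m`-pseudo-coherent relative to `R`.
-/

set_option autoImplicit false

universe u

open CategoryTheory CategoryTheory.Limits CategoryTheory.Pretriangulated ZeroObject MonoidalCategory

attribute [local instance] HasDerivedCategory.standard

namespace K365.Tens

open K365.PCRestrict K365.Poly K365.Rel K365.Hom K365.Flat Groth.Agent Groth.Agent.LoccohB
open Groth.Agent.CalgB.PsCohGen Groth.Agent.CalgB.PsCoh Groth.Agent.LoccohB.PCChange

section Fun

variable {S : Type u} [CommRing S]

/-- `M ↦ F ⊗ M` (termwise). -/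
noncomputable def tenFun (F : DRing.Cx S) : ModuleCat.{u} S ⥤ DRing.Cx S where
  obj M := ((tensorRight M).mapHomologicalComplex (ComplexShape.up ℤ)).obj F
  map f := (NatTrans.mapHomologicalComplex ((tensoringRight (ModuleCat.{u} S)).map f) (ComplexShape.up ℤ)).app F
  map_id M := by
    ext i : 1
    exact whiskerLeft_id (F.X i) M
  map_comp f g := by
    ext i : 1
    exact MonoidalCategory.whiskerLeft_comp (F.X i) f g

instance additive_tenFun (F : DRing.Cx S) : (tenFun F).Additive where
  map_add {M N f g} := by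
    ext i : 1
    exact MonoidalPreadditive.whiskerLeft_add f g

lemma tenFun_shortExact (F : DRing.Cx S) (hF : ∀ i, Module.Flat S (F.X i)) (T : ShortComplex (ModuleCat.{u} S))
    (hT : T.ShortExact) : (T.map (tenFun F)).ShortExact := by
  apply HomologicalComplex.shortExact_of_degreewise_shortExact
  intro i
  have := hF i
  exact hT.map_of_exact (tensorLeft (F.X i))

/-- `F ⊗ S = F`. -/
noncomputable def tenFunSelf (F : DRing.Cx S) : (tenFun F).obj (ModuleCat.of S S) ≅ F :=
  (NatIso.mapHomologicalComplex (rightUnitorNatIso (ModuleCat.{u} S)) (ComplexShape.up ℤ)).app F ≪≫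
    (Functor.mapHomologicalComplexIdIso (ModuleCat.{u} S) (ComplexShape.up ℤ)).app F

lemma PCMod_X₁ {T : ShortComplex (ModuleCat.{u} S)} (hT : T.ShortExact) (h₂ : PCMod S T.X₂)
    (h₃ : PCMod S T.X₃) : PCMod S T.X₁ := fun m =>
  PC.obj₁ (isProjClass_ffree S) hT.singleTriangle_distinguished (m := m - 1) (by omega) (h₂ m) (h₃ (m - 1))

lemma PCMod_of_ffree {F : ModuleCat.{u} S} (hF : ffree S F) : PCMod S F := fun m =>
  PC.single (isProjClass_ffree S) hF 0 m

variable {P : Type u} [CommRing P] (χ : P →+* S)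

lemma isLE_tenFun (F : DRing.Cx S) (b : ℤ) (hb : ∀ i, b < i → IsZero (F.X i)) (M : ModuleCat.{u} S) :
    (DerivedCategory.Q.obj ((tenFun F).obj M)).IsLE b := by
  have : ((tenFun F).obj M).IsStrictlyLE b :=
    (CochainComplex.isStrictlyLE_iff _ _).2 fun i hi => (tensorRight M).map_isZero (hb i hi)
  infer_instance

/-- The triangle of a short exact sequence of modules. -/
lemma exists_triangle (F : DRing.Cx S) (hF : ∀ i, Module.Flat S (F.X i)) (T : ShortComplex (ModuleCat.{u} S))
    (hT : T.ShortExact) : ∃ Δ : Triangle (Dual.D P), Δ ∈ distinguishedTriangles ∧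
      Δ.obj₁ = (DRing.restrictD χ).obj (DerivedCategory.Q.obj ((tenFun F).obj T.X₁)) ∧
      Δ.obj₂ = (DRing.restrictD χ).obj (DerivedCategory.Q.obj ((tenFun F).obj T.X₂)) ∧
      Δ.obj₃ = (DRing.restrictD χ).obj (DerivedCategory.Q.obj ((tenFun F).obj T.X₃)) :=
  ⟨_, (DRing.restrictD χ).map_distinguished _
    (DerivedCategory.triangleOfSES_distinguished (tenFun_shortExact F hF T hT)), rfl, rfl, rfl⟩

lemma pc_tenFun_pi (F : DRing.Cx S) (hF : ∀ i, Module.Flat S (F.X i)) (m : ℤ)
    (hFP : DRing.IsPseudoCoherent P m ((DRing.restrictD χ).obj (DerivedCategory.Q.obj F))) (r : ℕ) :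
    DRing.IsPseudoCoherent P m ((DRing.restrictD χ).obj
      (DerivedCategory.Q.obj ((tenFun F).obj (ModuleCat.of S (Fin r → S))))) := by
  induction r with
  | zero =>
    have h1 : IsZero ((tenFun F).obj (ModuleCat.of S (Fin 0 → S))) :=
      (tenFun F).map_isZero (ModuleCat.isZero_of_subsingleton _)
    have h2 : IsZero ((DRing.restrictD χ).obj (DerivedCategory.Q.obj ((tenFun F).obj (ModuleCat.of S (Fin 0 → S))))) :=
      (DRing.restrictD χ).map_isZero (DerivedCategory.Q.map_isZero h1)
    exact PerfB.DescRing.pc_of_isZero fun i _ => (DerivedCategory.homologyFunctor _ i).map_isZero h2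
  | succ k ih =>
    let f : ModuleCat.of S S ⟶ ModuleCat.of S (Fin (k + 1) → S) :=
      ModuleCat.ofHom (LinearMap.single S (fun _ => S) 0)
    let g : ModuleCat.of S (Fin (k + 1) → S) ⟶ ModuleCat.of S (Fin k → S) :=
      ModuleCat.ofHom (LinearMap.funLeft S S Fin.succ)
    have w : f ≫ g = 0 := by
      apply ModuleCat.hom_ext
      apply LinearMap.ext
      intro x
      funext i
      change (Pi.single (M := fun _ : Fin (k + 1) => S) 0 x) i.succ = 0
      exact Pi.single_eq_of_ne (Fin.succ_ne_zero i) x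
    have hS : (ShortComplex.mk f g w).ShortExact :=
      { exact := by
          rw [ShortComplex.ShortExact.moduleCat_exact_iff_function_exact]
          intro x
          constructor
          · intro hx
            let x' : Fin (k + 1) → S := x
            refine ⟨x' 0, ?_⟩
            change (Pi.single (M := fun _ : Fin (k + 1) => S) 0 (x' 0)) = x'
            funext i
            refine Fin.cases ?_ (fun i => ?_) i
            · exact Pi.single_eq_same _ _
            · have h1 : x' i.succ = 0 := congrFun hx i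
              rw [h1]
              exact Pi.single_eq_of_ne (Fin.succ_ne_zero i) _
          · rintro ⟨y, rfl⟩
            exact LinearMap.congr_fun (congrArg ModuleCat.Hom.hom w) y
        mono_f := by
          rw [ModuleCat.mono_iff_injective]
          exact Pi.single_injective (M := fun _ : Fin (k + 1) => S) 0
        epi_g := by
          rw [ModuleCat.epi_iff_surjective]
          exact LinearMap.funLeft_surjective_of_injective S S _ (Fin.succ_injective k) }
    obtain ⟨Δ, hΔ, e₁, e₂, e₃⟩ := exists_triangle χ F hF _ hS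
    have h := PC.obj₂ (isProjClass_ffree P) hΔ (m := m) ?_ ?_
    · rw [e₂] at h
      exact h
    · rw [e₁]
      exact PerfB.DescRing.pc_of_iso ((DRing.restrictD χ).mapIso
        (DerivedCategory.Q.mapIso (tenFunSelf F).symm)) hFP
    · rw [e₃]
      exact ih

/-- The dévissage. -/
theorem pc_tenFun_aux (F : DRing.Cx S) (hF : ∀ i, Module.Flat S (F.X i)) (b : ℤ) (hb : ∀ i, b < i → IsZero (F.X i))
    (m : ℤ) (hFP : DRing.IsPseudoCoherent P m ((DRing.restrictD χ).obj (DerivedCategory.Q.obj F))) (n : ℕ) :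
    ∀ (m₁ : ℤ) (_ : m ≤ m₁) (_ : b < m₁ + n) (M : ModuleCat.{u} S) (_ : PCMod S M),
      DRing.IsPseudoCoherent P m₁ ((DRing.restrictD χ).obj (DerivedCategory.Q.obj ((tenFun F).obj M))) := by
  induction n with
  | zero =>
    intro m₁ _ hb' M _
    have h1 := (isLE_restrictD_iff χ (DerivedCategory.Q.obj ((tenFun F).obj M)) b).2 (isLE_tenFun F b hb M)
    exact PerfB.DescRing.pc_of_isZero fun i hi => DerivedCategory.isZero_of_isLE _ b i (by push_cast at hb'; omega)
  | succ n ih =>
    intro m₁ hm₁ hb' M hM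
    have hfin : Module.Finite S M := (K365.Dev.pcModule_zero_iff M).1 (hM 0)
    obtain ⟨r, f, hf⟩ := Module.Finite.exists_fin' S M
    let T : ShortComplex (ModuleCat.{u} S) :=
      ShortComplex.mk (ModuleCat.ofHom (LinearMap.ker f).subtype : ModuleCat.of S (LinearMap.ker f) ⟶
        ModuleCat.of S (Fin r → S))
        (ModuleCat.ofHom f : ModuleCat.of S (Fin r → S) ⟶ M) (by
          apply ModuleCat.hom_ext
          apply LinearMap.ext
          intro x
          exact x.2)
    have hT : T.ShortExact :=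
      { exact := by
          rw [ShortComplex.ShortExact.moduleCat_exact_iff_function_exact]
          intro x
          exact ⟨fun hx => ⟨⟨x, hx⟩, rfl⟩, by rintro ⟨y, rfl⟩; exact y.2⟩
        mono_f := by
          rw [ModuleCat.mono_iff_injective]
          exact Subtype.val_injective
        epi_g := by
          rw [ModuleCat.epi_iff_surjective]
          exact hf }
    have h2 : PCMod S T.X₂ := PCMod_of_ffree ⟨inferInstanceAs (Module.Finite S (Fin r → S)),
      inferInstanceAs (Module.Free S (Fin r → S))⟩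
    have h1 : PCMod S T.X₁ := PCMod_X₁ hT h2 hM
    obtain ⟨Δ, hΔ, e₁, e₂, e₃⟩ := exists_triangle χ F hF _ hT
    have h := PC.obj₃ (isProjClass_ffree P) hΔ (m := m₁) rfl ?_ ?_
    · rw [e₃] at h
      exact h
    · rw [e₁]
      exact ih (m₁ + 1) (by omega) (by push_cast at hb'; omega) _ h1
    · rw [e₂]
      exact PerfB.DescRing.pc_mono hm₁ (pc_tenFun_pi χ F hF m hFP r)

theorem pc_tenFun (F : DRing.Cx S) (hF : ∀ i, Module.Flat S (F.X i)) (b : ℤ) (hb : ∀ i, b < i → IsZero (F.X i))
    (m : ℤ) (hFP : DRing.IsPseudoCoherent P m ((DRing.restrictD χ).obj (DerivedCategory.Q.obj F)))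
    (M : ModuleCat.{u} S) (hM : PCMod S M) :
    DRing.IsPseudoCoherent P m ((DRing.restrictD χ).obj (DerivedCategory.Q.obj ((tenFun F).obj M))) := by
  refine pc_tenFun_aux χ F hF b hb m hFP (b - m + 1).toNat m le_rfl ?_ M hM
  have := Int.self_le_toNat (b - m + 1)
  omega

end Fun

/-- `Q (F ⊗_S B)`, `F` bounded above with projective terms, is the restriction of the derived base change. -/
theorem nonempty_iso {S B : Type u} [CommRing S] [CommRing B] (β : S →+* B) [DRing.HasLBaseChange β] (F : DRing.Cx S)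
    [F.IsKProjective] :
    Nonempty (DerivedCategory.Q.obj ((tenFun F).obj ((ModuleCat.restrictScalars.{u} β).obj (ModuleCat.of B B))) ≅
      (DRing.restrictD β).obj ((DRing.LBaseChange β).obj (DerivedCategory.Q.obj F))) := by
  let e1 : (tenFun F).obj ((ModuleCat.restrictScalars.{u} β).obj (ModuleCat.of B B)) ≅
      ((ModuleCat.restrictScalars.{u} β).mapHomologicalComplex (ComplexShape.up ℤ)).obj
        (((ModuleCat.extendScalars.{u, u, u} β).mapHomologicalComplex (ComplexShape.up ℤ)).obj F) :=
    (NatIso.mapHomologicalComplex (Ega3B.TFunBC.extResIso β) (ComplexShape.up ℤ)).symm.app F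
  exact ⟨DerivedCategory.Q.mapIso e1 ≪≫
    ((ModuleCat.restrictScalars.{u} β).mapDerivedCategoryFactors.app _).symm ≪≫
    (DRing.restrictD β).mapIso (LBC.lbcQIso β F).symm⟩

/-- Any object of `D^{≤ b}` is represented by a bounded above complex of projectives. -/
theorem exists_rep {S : Type u} [CommRing S] (K : Dual.D S) (b : ℤ) [hb : K.IsLE b] :
    ∃ F : DRing.Cx S, (∀ i, b < i → IsZero (F.X i)) ∧ (∀ i, Projective (F.X i)) ∧ F.IsKProjective ∧
      Nonempty (DerivedCategory.Q.obj F ≅ K) := by
  obtain ⟨L, ⟨e⟩⟩ : ∃ L, Nonempty (DerivedCategory.Q.obj L ≅ K) := ⟨_, ⟨DerivedCategory.Q.objObjPreimageIso K⟩⟩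
  have hL : (DerivedCategory.Q.obj L).IsLE b :=
    (DerivedCategory.TStructure.t : Triangulated.TStructure (Dual.D S)).isLE_of_iso e.symm b
  have hL' : L.IsLE b := (DerivedCategory.isLE_Q_obj_iff L b).1 hL
  obtain ⟨F, p, hF, hF', hp⟩ := Dcoh.LeftRes.exists_resolution_of_isLE
    (PerfB.RingKFlat.goodClass_projective S) L b
  have := hF'
  exact ⟨F, fun i hi => (CochainComplex.isStrictlyLE_iff F b).1 hF i hi, hF',
    CochainComplex.isKProjective_of_projective F b, ⟨asIso (DerivedCategory.Q.map p) ≪≫ e⟩⟩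

/-- Derived base change along a map `β : S → B` making `B` pseudo-coherent. -/
theorem pc_restrict_lbc {S B P : Type u} [CommRing S] [CommRing B] [CommRing P] (χ : P →+* S) (β : S →+* B)
    [DRing.HasLBaseChange β] (hβ : PCMap β) (K : Dual.D S) (m : ℤ)
    (hK : DRing.IsPseudoCoherent P m ((DRing.restrictD χ).obj K)) :
    DRing.IsPseudoCoherent P m ((DRing.restrictD (β.comp χ)).obj ((DRing.LBaseChange β).obj K)) := by
  obtain ⟨b, hb⟩ := PC.exists_isLE (P := ffree P) hK
  rw [isLE_restrictD_iff] at hb
  obtain ⟨F, hF, hF', hF'', ⟨e⟩⟩ := exists_rep K b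
  rw [pc_comp_iff χ β _ rfl]
  obtain ⟨e'⟩ := nonempty_iso β F
  refine PerfB.DescRing.pc_of_iso ((DRing.restrictD χ).mapIso (e' ≪≫ (DRing.restrictD β).mapIso
    ((DRing.LBaseChange β).mapIso e))) ?_
  refine pc_tenFun χ F (fun i => ?_) b hF m (PerfB.DescRing.pc_of_iso ((DRing.restrictD χ).mapIso e.symm) hK) _ hβ
  have := hF' i
  have : Module.Projective S (F.X i) := inferInstance
  infer_instance

/-- Derived base change of relatively pseudo-coherent objects. -/
theorem rel_lbc {R A B : Type u} [CommRing R] [CommRing A] [CommRing B] [Algebra R A] [Algebra A B] [Algebra R B]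
    [IsScalarTower R A B] [Algebra.FiniteType R A] [Algebra.FiniteType A B]
    (hB : DerCA.IsRelPseudoCoherentModuleAll A B B) [DRing.HasLBaseChange (algebraMap A B)] (K : Dual.D A) (m : ℤ)
    (hK : DerCA.IsRelPseudoCoherent R A m K) :
    DerCA.IsRelPseudoCoherent R B m ((DRing.LBaseChange (algebraMap A B)).obj K) := by
  obtain ⟨n, α, hα⟩ := Algebra.FiniteType.iff_quotient_mvPolynomial''.1 (inferInstance : Algebra.FiniteType R A)
  obtain ⟨k, β, hβ⟩ := Algebra.FiniteType.iff_quotient_mvPolynomial''.1 (inferInstance : Algebra.FiniteType A B)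
  have hβ' := pcMap_of_relModuleAll hB β (RingHom.Finite.of_surjective _ hβ)
  rw [rel_iff_of_surjective α hα] at hK
  let θ : MvPolynomial (Fin k) (MvPolynomial (Fin n) R) →ₐ[R] B :=
    (β.restrictScalars R).comp (MvPolynomial.mapAlgHom α)
  have hθ : Function.Surjective θ :=
    hβ.comp (MvPolynomial.map_surjective (α : MvPolynomial (Fin n) R →+* A) hα)
  rw [rel_iff_iter θ hθ]
  have h1 := pc_mvPolynomial_map (Fin k) (α : MvPolynomial (Fin n) R →+* A) hK
  have h2 : DRing.HasLBaseChange (β : MvPolynomial (Fin k) A →+* B) := LBC.hasLBaseChange _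
  have h3 : DRing.HasLBaseChange (algebraMap A (MvPolynomial (Fin k) A)) := LBC.hasLBaseChange _
  have h4 := pc_restrict_lbc _ (β : MvPolynomial (Fin k) A →+* B) hβ' _ m h1
  refine PerfB.DescRing.pc_of_iso ((DRing.restrictD (θ : MvPolynomial (Fin k) (MvPolynomial (Fin n) R) →+* B)).mapIso
    ((DRing.LBaseChange (β : MvPolynomial (Fin k) A →+* B)).mapIso
      ((FlatLBC.LBaseChangeIso _ (flat_mvPolynomial (Fin k) A)).symm.app K) ≪≫
      (LBC.lbcComp _ _ (algebraMap A B) ?_).app K)) h4
  exact β.comp_algebraMap.symm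

end K365.Tens
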