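import Groth.Agent.DerCA.K365.Rel
import Groth.Agent.LoccohB.BCMap
import Groth.Agent.Sga67.TorVanish
import Groth.Agent.Ega3A.TorLES
import Groth.Agent.S2137

/-!
# Tor-independent base change

* `isIso_bcm` : the derived Beck–Chevalley map of the base change of `C → B` along `R → R'` is an isomorphism if `C` is
  flat over `R` and `Tor_p^R(B, R') = 0` for `p > 0`.
* `rel_tor` : relative pseudo-coherence is preserved by Tor-independent base change.
-/

set_option autoImplicit false

universe u

open CategoryTheory CategoryTheory.Limits CategoryTheory.Functor TensorProduct MonoidalCategory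

attribute [local instance] HasDerivedCategory.standard

namespace K365.TorInd

open Groth.Agent Groth.Agent.LoccohB DerivedCategory LBC BCUnit PerfC.AcyclicBdd BCFlat BCMap
open Groth.Agent.Sga67.TorVanish

section Over

variable (R R' C : Type u) [CommRing R] [CommRing R'] [CommRing C] [Algebra R R'] [Algebra R C]

/-- `C`-modules `M` with `Tor_p^R(M, R') = 0` for `p > 0`. -/
def TVOver : ObjectProperty (ModuleCat.{u} C) := fun M =>
  TV ((ModuleCat.restrictScalars.{u} (algebraMap R C)).obj M) (ModuleCat.of R R')

lemma tvOver_of_flatOver (M : ModuleCat.{u} C) (hM : FlatOver R C M) : TVOver R R' C M := by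
  intro i hi
  obtain ⟨n, rfl⟩ : ∃ n, i = n + 1 := ⟨i - 1, by omega⟩
  have : Module.Flat R ((ModuleCat.restrictScalars.{u} (algebraMap R C)).obj M) := hM
  exact Ega3A.TorLES.isZero_tor_of_flat_left _ (ModuleCat.of R R') n

lemma tvOver_of_isZero (M : ModuleCat.{u} C) (hM : IsZero M) : TVOver R R' C M :=
  TV.of_subsingleton (Functor.map_isZero _ hM)

lemma tvOver_biprod (M N : ModuleCat.{u} C) (hM : TVOver R R' C M) (hN : TVOver R R' C N) :
    TVOver R R' C (M ⊞ N) := by
  have h := (ShortComplex.Splitting.ofHasBinaryBiproduct M N).shortExact.map_of_exact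
    (ModuleCat.restrictScalars.{u} (algebraMap R C))
  exact TV.middle h hM hN

variable (C' : Type u) [CommRing C']
  [Algebra R' C'] [Algebra C C'] [Algebra R C']
  [IsScalarTower R R' C'] [IsScalarTower R C C'] [Algebra.IsPushout R R' C C']

/-- The class of Tor-independent modules is adapted to `C' ⊗_C -`. -/
theorem adapted : Adapted (ModuleCat.extendScalars.{u, u, u} (algebraMap C C')) (TVOver R R' C) where
  zero M hM := tvOver_of_isZero R R' C M hM
  ker S hS h₂ h₃ := by
    have h := hS.map_of_exact (ModuleCat.restrictScalars.{u} (algebraMap R C))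
    exact TV.left h h₂ h₃
  mono S hS h₃ := by
    have h := hS.map_of_exact (ModuleCat.restrictScalars.{u} (algebraMap R C))
    have h4 : Mono ((ModuleCat.extendScalars.{u, u, u} (algebraMap R R')).map
        ((ModuleCat.restrictScalars.{u} (algebraMap R C)).map S.f)) := by
      rw [ModuleCat.mono_iff_injective]
      have h5' : Mono (((ModuleCat.restrictScalars.{u} (algebraMap R C)).map S.f) ▷ (ModuleCat.of R R')) :=
        (Ega3A.TorLES.exact_δ₁Zero h (ModuleCat.of R R')).mono_g ((h₃ 1 le_rfl).eq_of_src _ _)
      have h5'' : Function.Injective (LinearMap.rTensor R'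
          ((ModuleCat.restrictScalars.{u} (algebraMap R C)).map S.f).hom) :=
        (ModuleCat.mono_iff_injective _).1 h5'
      have h5 : Function.Injective (LinearMap.lTensor R'
          ((ModuleCat.restrictScalars.{u} (algebraMap R C)).map S.f).hom) :=
        (LinearMap.lTensor_inj_iff_rTensor_inj R' _).2 h5''
      have h6 : ⇑((ModuleCat.extendScalars.{u, u, u} (algebraMap R R')).map
        ((ModuleCat.restrictScalars.{u} (algebraMap R C)).map S.f)).hom =
        (FlatLBC.extEquiv R R' _) ∘ (LinearMap.lTensor R'
          ((ModuleCat.restrictScalars.{u} (algebraMap R C)).map S.f).hom) ∘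
        (FlatLBC.extEquiv R R' _).symm := by
        funext x
        obtain ⟨t, rfl⟩ := (FlatLBC.extEquiv R R' _).surjective x
        dsimp only [Function.comp_apply]
        rw [LinearEquiv.symm_apply_apply]
        induction t using TensorProduct.induction_on with
        | zero => simp only [_root_.map_zero]
        | add x y hx hy => simp only [_root_.map_add, hx, hy]
        | tmul c m => rfl
      rw [h6]
      exact (FlatLBC.extEquiv R R' _).injective.comp (h5.comp (FlatLBC.extEquiv R R' _).symm.injective)
    have h5 : Mono ((ModuleCat.extendScalars.{u, u, u} (algebraMap C C') ⋙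
        ModuleCat.restrictScalars.{u} (algebraMap R' C')).map S.f) := by
      have h6 := (BeckChev.bcIso R R' C C').hom.naturality S.f
      have h7 : (ModuleCat.extendScalars.{u, u, u} (algebraMap C C') ⋙
        ModuleCat.restrictScalars.{u} (algebraMap R' C')).map S.f =
        (BeckChev.bcIso R R' C C').inv.app _ ≫
        (ModuleCat.restrictScalars.{u} (algebraMap R C) ⋙
          ModuleCat.extendScalars.{u, u, u} (algebraMap R R')).map S.f ≫
        (BeckChev.bcIso R R' C C').hom.app _ := by
        rw [h6, Iso.inv_hom_id_app_assoc]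
      rw [h7]
      have h8 : Mono ((ModuleCat.restrictScalars.{u} (algebraMap R C) ⋙
          ModuleCat.extendScalars.{u, u, u} (algebraMap R R')).map S.f) := h4
      infer_instance
    exact (ModuleCat.restrictScalars.{u} (algebraMap R' C')).mono_of_mono_map h5

/-- `C` flat over `R`, `M` Tor-independent of `R'`: the derived base change of `M[-n]` is `(C' ⊗_C M)[-n]`. -/
theorem isIso_lbcQCounit_single [Module.Flat R C] [DRing.HasLBaseChange (algebraMap C C')]
    (M : ModuleCat.{u} C) (hM : TVOver R R' C M) (n : ℤ) :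
    IsIso ((lbcQCounit (algebraMap C C')).app ((CochainComplex.singleFunctor _ n).obj M)) := by
  obtain ⟨F, p, h1, h2, h3, h4⟩ := exists_res C M n
  refine isIso_lbcQCounit_of_res (algebraMap C C') p ?_
  have hz : ∀ i, n < i → IsZero (((CochainComplex.singleFunctor (ModuleCat.{u} C) n).obj M).X i) :=
    fun i hi => HomologicalComplex.isZero_single_obj_X (ComplexShape.up ℤ) n M i (by lia)
  refine (adapted R R' C C').quasiIso_map (tvOver_biprod R R' C) p n h3 hz ?_ ?_
  · intro i
    have h5 : Module.Projective C (F.X i) := (IsProjective.iff_projective (R := C) (F.X i)).2 (h4 i)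
    exact tvOver_of_flatOver R R' C _ (flatOver_of_flat R C _)
  · intro i
    by_cases hi : i = n
    · subst hi
      exact (adapted R R' C C').of_iso
        (HomologicalComplex.singleObjXSelf (ComplexShape.up ℤ) i M).symm hM
    · exact tvOver_of_isZero R R' C _ (HomologicalComplex.isZero_single_obj_X (ComplexShape.up ℤ) n M i hi)

end Over

section Base

variable (R R' C C' B B' : Type u) [CommRing R] [CommRing R'] [CommRing C] [CommRing C'] [CommRing B]
  [CommRing B'] [Algebra R R'] [Algebra R C] [Algebra R C'] [Algebra R B] [Algebra R B']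
  [Algebra R' C'] [Algebra R' B'] [Algebra C C'] [Algebra C B] [Algebra C B'] [Algebra C' B']
  [Algebra B B'] [IsScalarTower R R' C'] [IsScalarTower R C C'] [IsScalarTower R R' B']
  [IsScalarTower R B B'] [IsScalarTower R C B] [IsScalarTower R' C' B'] [IsScalarTower C C' B']
  [IsScalarTower C B B'] [IsScalarTower R C' B']
  [Algebra.IsPushout R R' C C'] [Algebra.IsPushout R R' B B']

lemma tvOver_restrict (h : TV (ModuleCat.of R B) (ModuleCat.of R R')) : TVOver R R' C
    ((ModuleCat.restrictScalars.{u} (algebraMap C B)).obj (ModuleCat.of B B)) := by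
  have key : ∀ (r : R) (x : B), algebraMap C B (algebraMap R C r) * x = r • x := fun r x => by
    rw [← IsScalarTower.algebraMap_apply R C B, Algebra.smul_def]
  let e : ((ModuleCat.restrictScalars.{u} (algebraMap R C)).obj
      ((ModuleCat.restrictScalars.{u} (algebraMap C B)).obj (ModuleCat.of B B))) ≃ₗ[R] (ModuleCat.of R B) :=
      { toFun := fun x => x
        invFun := fun x => x
        left_inv := fun _ => rfl
        right_inv := fun _ => rfl
        map_add' := fun _ _ => rfl
        map_smul' := fun r x => key r x }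
  exact TV.of_iso (X := ModuleCat.of R B) h e.symm.toModuleIso

include R R' in
/-- **Derived Beck–Chevalley**, Tor-independent version. -/
theorem isIso_bcm [Module.Flat R C] (h : TV (ModuleCat.of R B) (ModuleCat.of R R'))
    [DRing.HasLBaseChange (algebraMap C C')] [DRing.HasLBaseChange (algebraMap B B')] :
    IsIso (bcm C C' B B') := by
  have hp := isPushout_square R R' C C' B B'
  refine isIso_bcm_of_sg C C' B B' (fun n => ?_)
  refine isIso_app_of_iso (bcm C C' B B')
    ((singleFunctorIsoCompQ (ModuleCat.{u} B) n).symm.app (ModuleCat.of B B)) ?_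
  refine isIso_bcm_Q C C' B B' ((CochainComplex.singleFunctor _ n).obj (ModuleCat.of B B)) ?_ ?_
  · infer_instance
  · refine isIso_app_of_iso (lbcQCounit (algebraMap C C'))
      (resSingle (algebraMap C B) (ModuleCat.of B B) n).symm ?_
    refine isIso_lbcQCounit_single R R' C C' _ ?_ n
    exact tvOver_restrict R R' C B h

end Base

attribute [local instance] Algebra.TensorProduct.rightAlgebra in
theorem rel_tor {R A R' : Type u} [CommRing R] [CommRing A] [CommRing R'] [Algebra R A]
    [Algebra.FiniteType R A] [Algebra R R'] (h : TV (ModuleCat.of R A) (ModuleCat.of R R'))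
    [DRing.HasLBaseChange (algebraMap A (R' ⊗[R] A))] (K : Dual.D A) (m : ℤ)
    (hK : DerCA.IsRelPseudoCoherent R A m K) :
    DerCA.IsRelPseudoCoherent R' (R' ⊗[R] A) m ((DRing.LBaseChange (algebraMap A (R' ⊗[R] A))).obj K) := by
  obtain ⟨n, ψ, hψ, hK⟩ := hK
  let ψ' : MvPolynomial (Fin n) R' →ₐ[R'] (R' ⊗[R] A) :=
    MvPolynomial.aeval (fun i => (1 : R') ⊗ₜ[R] ψ (MvPolynomial.X i))
  let P := MvPolynomial (Fin n) R
  let P' := MvPolynomial (Fin n) R'
  let _ : Algebra P A := ψ.toRingHom.toAlgebra
  let _ : Algebra P P' := MvPolynomial.algebraMvPolynomial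
  let _ : Algebra P' (R' ⊗[R] A) := ψ'.toRingHom.toAlgebra
  let _ : Algebra P (R' ⊗[R] A) := ((algebraMap A (R' ⊗[R] A)).comp ψ.toRingHom).toAlgebra
  have hcomm : ψ'.toRingHom.comp (MvPolynomial.map (algebraMap R R')) =
      (algebraMap A (R' ⊗[R] A)).comp ψ.toRingHom := by
    apply MvPolynomial.ringHom_ext
    · intro r
      simp only [RingHom.comp_apply, MvPolynomial.map_C]
      change ψ' (algebraMap R' P' (algebraMap R R' r)) = algebraMap A (R' ⊗[R] A) (ψ (algebraMap R P r))
      rw [ψ'.commutes, ψ.commutes, ← IsScalarTower.algebraMap_apply R R' (R' ⊗[R] A),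
        ← IsScalarTower.algebraMap_apply R A (R' ⊗[R] A)]
    · intro i
      simp only [RingHom.comp_apply, MvPolynomial.map_X]
      change ψ' (MvPolynomial.X i) = algebraMap A (R' ⊗[R] A) (ψ (MvPolynomial.X i))
      rw [MvPolynomial.aeval_X]
      rfl
  have t1 : IsScalarTower P P' (R' ⊗[R] A) := IsScalarTower.of_algebraMap_eq' hcomm.symm
  have t2 : IsScalarTower P A (R' ⊗[R] A) := IsScalarTower.of_algebraMap_eq' rfl
  have t3 : IsScalarTower R P A := IsScalarTower.of_algebraMap_eq' ψ.comp_algebraMap.symm
  have t4 : IsScalarTower R' P' (R' ⊗[R] A) := IsScalarTower.of_algebraMap_eq' ψ'.comp_algebraMap.symm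
  have t5 : IsScalarTower R P' (R' ⊗[R] A) := IsScalarTower.of_algebraMap_eq fun r => by
    rw [IsScalarTower.algebraMap_apply R R' P', ← IsScalarTower.algebraMap_apply R' P' (R' ⊗[R] A),
      ← IsScalarTower.algebraMap_apply R R' (R' ⊗[R] A)]
  refine ⟨n, ψ', ?_, ?_⟩
  · intro x
    induction x using TensorProduct.induction_on with
    | zero => exact ⟨0, map_zero _⟩
    | add x y hx hy =>
      obtain ⟨a, rfl⟩ := hx
      obtain ⟨b, rfl⟩ := hy
      exact ⟨a + b, map_add _ _ _⟩
    | tmul r a =>
      obtain ⟨p, rfl⟩ := hψ a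
      refine ⟨algebraMap R' P' r * MvPolynomial.map (algebraMap R R') p, ?_⟩
      rw [map_mul, ψ'.commutes]
      have h1 : ψ' (MvPolynomial.map (algebraMap R R') p) = (1 : R') ⊗ₜ[R] ψ p :=
        DFunLike.congr_fun hcomm p
      rw [h1]
      change (r ⊗ₜ[R] (1 : A)) * ((1 : R') ⊗ₜ[R] ψ p) = _
      rw [Algebra.TensorProduct.tmul_mul_tmul, mul_one, one_mul]
  · have := LBC.hasLBaseChange (algebraMap P P')
    have h1 := isIso_bcm R R' P P' A (R' ⊗[R] A) h
    have h2 : DRing.IsPseudoCoherent P m ((DRing.restrictD (algebraMap P A)).obj K) := hK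
    have h3 := Groth.Agent.S2137.result (algebraMap P P') _ m h2
    have h4 : IsIso ((bcm P P' A (R' ⊗[R] A)).app K) := inferInstance
    exact PerfB.DescRing.pc_of_iso (asIso ((bcm P P' A (R' ⊗[R] A)).app K)) h3

end K365.TorInd
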